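import Mathlib

/-!
# Normalisers of `p`-subgroups in a group with a subgroup of index prime to `p`

* `frattini` : `P ≤ H`, `P` a Sylow `p`-subgroup of `P I`, `I` normal, `f : H → K` a homomorphism to a group of order
  prime to `p` which is not trivial on `H ∩ P I`: some `p'`-element of `H ∩ I` normalises `P` and is not in the kernel.
* `cover` : the same for a group `Γ` mapping to `MulAut S` and a `p`-subgroup `A` of `MulAut S` containing a Sylow
  `p`-subgroup of `S`, `H ≤ Γ` of index prime to `p`;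
* `cover_strong` : moreover `h` does not centralise the Sylow subgroup (`T` a `p`-subgroup normalised by `H`, on which
  the `p'`-elements outside the kernel of `f` act nontrivially).
-/

set_option autoImplicit false

namespace Cfsg.Agent.H507.Gmn

open Subgroup

section Frattini

variable {Γ : Type*} [Group Γ] [Finite Γ] {p : ℕ} [hp : Fact p.Prime]

/-- The `p'`-part of an element keeps its image in a `p'`-group nontrivial. -/
theorem pow_ne_one {K : Type*} [Group K] [Finite K] (hK : ¬ p ∣ Nat.card K) {y : K} (hy : y ≠ 1) (k : ℕ) :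
    y ^ p ^ k ≠ 1 := by
  intro h
  have h1 : orderOf y ∣ p ^ k := orderOf_dvd_of_pow_eq_one h
  have h2 : orderOf y ∣ Nat.card K := orderOf_dvd_natCard y
  have h3 : Nat.Coprime (p ^ k) (Nat.card K) := Nat.Coprime.pow_left k ((Nat.Prime.coprime_iff_not_dvd hp.out).2 hK)
  have h4 : orderOf y = 1 := Nat.eq_one_of_dvd_coprimes h3 h1 h2
  exact hy (orderOf_eq_one_iff.1 h4)

theorem frattini {I P H : Subgroup Γ} [hI : I.Normal] (hP : IsPGroup p ↥P) (hPI : ¬ p ∣ P.relIndex (P ⊔ I))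
    (hPH : P ≤ H) {K : Type*} [Group K] [Finite K] (hK : ¬ p ∣ Nat.card K) (f : ↥H →* K) (x : ↥H)
    (hx : (x : Γ) ∈ P ⊔ I) (hfx : f x ≠ 1) :
    ∃ n : ↥H, (n : Γ) ∈ I ∧ (∀ g ∈ P, (n : Γ) * g * (n : Γ)⁻¹ ∈ P) ∧ f n ≠ 1 ∧ ¬ p ∣ orderOf n := by
  classical
  let X : Subgroup Γ := H ⊓ (P ⊔ I)
  have hXH : X ≤ H := inf_le_left
  have hPX : P ≤ X := le_inf hPH le_sup_left
  let f' : ↥X →* K := f.comp (Subgroup.inclusion hXH)
  let N : Subgroup ↥X := f'.ker
  let PX : Subgroup ↥X := P.subgroupOf X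
  have hPXp : IsPGroup p ↥PX := hP.comap_subtype
  have hPXN : PX ≤ N := by
    intro g hg
    rw [MonoidHom.mem_ker]
    by_contra hne
    obtain ⟨k, hk⟩ := hPXp ⟨g, hg⟩
    have hk' : g ^ p ^ k = 1 := congrArg Subtype.val hk
    exact pow_ne_one hK hne k (by rw [← map_pow, hk', map_one])
  let PN : Subgroup ↥N := PX.subgroupOf N
  have hPNp : IsPGroup p ↥PN := hPXp.comap_subtype
  have hPNi : ¬ p ∣ PN.index := by
    intro hd
    apply hPI
    have h1 : PN.index ∣ PX.index := by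
      change PX.relIndex N ∣ PX.index
      exact Subgroup.relIndex_dvd_index_of_le hPXN
    have h2 : PX.index ∣ P.relIndex (P ⊔ I) := by
      change P.relIndex X ∣ P.relIndex (P ⊔ I)
      have h3 : P.relIndex X * X.relIndex (P ⊔ I) = P.relIndex (P ⊔ I) :=
        Subgroup.relIndex_mul_relIndex P X (P ⊔ I) hPX inf_le_right
      exact ⟨_, h3.symm⟩
    exact (hd.trans h1).trans h2
  let Q : Sylow p ↥N := hPNp.toSylow hPNi
  have hQ : (Q : Subgroup ↥N).map N.subtype = PX := by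
    change PN.map N.subtype = PX
    rw [Subgroup.subgroupOf_map_subtype]
    exact inf_eq_left.2 hPXN
  have hfr := Sylow.normalizer_sup_eq_top Q
  rw [hQ] at hfr
  let x' : ↥X := ⟨x, x.2, hx⟩
  have hx' : x' ∈ normalizer (PX : Set ↥X) ⊔ N := by rw [hfr]; exact Subgroup.mem_top _
  rw [Subgroup.mem_sup_of_normal_right] at hx'
  obtain ⟨n, hn, m, hm, hnm⟩ := hx'
  have hfn : f' n ≠ 1 := by
    intro h1
    apply hfx
    have h2 : f' x' = f x := rfl
    rw [← h2, ← hnm, map_mul, h1, one_mul]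
    exact hm
  obtain ⟨k, c, hc, hkc⟩ : ∃ k c, ¬ p ∣ c ∧ orderOf n = p ^ k * c := by
    obtain ⟨k, c, hc, h⟩ := Nat.exists_eq_pow_mul_and_not_dvd (orderOf_pos n).ne' p hp.out.ne_one
    exact ⟨k, c, hc, h⟩
  let n' : ↥X := n ^ p ^ k
  have hn'o : orderOf n' = c := by
    change orderOf (n ^ p ^ k) = c
    rw [orderOf_pow, hkc, Nat.gcd_eq_right (Dvd.intro _ rfl), Nat.mul_div_cancel_left _ (pow_pos hp.out.pos k)]
  have hn' : n' ∈ normalizer (PX : Set ↥X) := Subgroup.pow_mem _ hn _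
  have hco : Nat.Coprime c p := ((Nat.Prime.coprime_iff_not_dvd hp.out).2 hc).symm
  refine ⟨⟨(n' : Γ), hXH n'.2⟩, ?_, ?_, ?_, ?_⟩
  · -- the `p'`-element lies in `I`
    have h1 : (n' : Γ) ∈ P ⊔ I := n'.2.2
    rw [Subgroup.mem_sup_of_normal_right] at h1
    obtain ⟨a, ha, i, hi, hai⟩ := h1
    obtain ⟨l, hl⟩ := hP ⟨a, ha⟩
    have hl' : a ^ p ^ l = 1 := congrArg Subtype.val hl
    have h2 : ((n' : Γ) : Γ ⧸ I) ^ p ^ l = 1 := by
      have h3 : ((n' : Γ) : Γ ⧸ I) = (a : Γ ⧸ I) := by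
        rw [← hai, QuotientGroup.mk_mul, (QuotientGroup.eq_one_iff i).2 hi, mul_one]
      rw [h3, ← QuotientGroup.mk_pow, hl', QuotientGroup.mk_one]
    have h4 : ((n' : Γ) : Γ ⧸ I) ^ c = 1 := by
      rw [← QuotientGroup.mk_pow]
      have h5 : (n' : Γ) ^ c = 1 := by
        have h6 : n' ^ c = 1 := by rw [← hn'o]; exact pow_orderOf_eq_one _
        exact congrArg Subtype.val h6
      rw [h5, QuotientGroup.mk_one]
    have h7 : orderOf ((n' : Γ) : Γ ⧸ I) = 1 :=
      Nat.eq_one_of_dvd_coprimes (Nat.Coprime.pow_right l hco) (orderOf_dvd_of_pow_eq_one h4)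
        (orderOf_dvd_of_pow_eq_one h2)
    exact (QuotientGroup.eq_one_iff _).1 (orderOf_eq_one_iff.1 h7)
  · intro g hg
    have h1 : (⟨g, hPX hg⟩ : ↥X) ∈ PX := hg
    have h2 := (Subgroup.mem_normalizer_iff.1 hn' ⟨g, hPX hg⟩).1 h1
    exact h2
  · have h1 : f ⟨(n' : Γ), hXH n'.2⟩ = f' n' := rfl
    rw [h1]
    change f' (n ^ p ^ k) ≠ 1
    rw [map_pow]
    exact pow_ne_one hK hfn k
  · have h1 : orderOf (⟨(n' : Γ), hXH n'.2⟩ : ↥H) = orderOf n' := by
      rw [← Subgroup.orderOf_coe, ← Subgroup.orderOf_coe n']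
    rw [h1, hn'o]
    exact hc

end Frattini

section Cover

variable {S Γ : Type*} [Group S] [Finite S] [Group Γ] [Finite Γ] {p : ℕ} [hp : Fact p.Prime]

/-- A `p`-subgroup has a conjugate in every subgroup of index prime to `p`. -/
theorem exists_conj_le {P H : Subgroup Γ} (hP : IsPGroup p ↥P) (hH : ¬ p ∣ H.index) :
    ∃ γ : Γ, ∀ x ∈ P, γ⁻¹ * x * γ ∈ H := by
  have h1 := hP.card_modEq_card_fixedPoints (α := Γ ⧸ H)
  have h2 : (MulAction.fixedPoints ↥P (Γ ⧸ H)).Nonempty := by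
    rw [Set.nonempty_iff_ne_empty]
    intro he
    apply hH
    rw [he] at h1
    have h3 : Nat.card ↥(∅ : Set (Γ ⧸ H)) = 0 := by simp
    rw [h3] at h1
    exact (Nat.modEq_zero_iff_dvd).1 h1
  obtain ⟨c, hc⟩ := h2
  obtain ⟨γ, rfl⟩ := QuotientGroup.mk_surjective c
  refine ⟨γ, fun x hx => ?_⟩
  have h3 := (MulAction.mem_fixedPoints.1 hc) ⟨x, hx⟩
  have h4 : ((x * γ : Γ) : Γ ⧸ H) = (γ : Γ ⧸ H) := h3
  have h5 := QuotientGroup.eq.1 h4.symm
  rw [mul_assoc]
  exact h5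

/-- A Sylow `p`-subgroup of the preimage of a `p`-group. -/
theorem exists_sylow_lift {G' : Type*} [Group G'] (Φ : Γ →* G') {A : Subgroup G'} (hA : IsPGroup p ↥A)
    (hAΦ : A ≤ Φ.range) : ∃ P : Subgroup Γ, IsPGroup p ↥P ∧ P.map Φ = A ∧ ¬ p ∣ P.relIndex (A.comap Φ) := by
  classical
  let At := A.comap Φ
  obtain ⟨P⟩ : Nonempty (Sylow p ↥At) := inferInstance
  have hle : (P : Subgroup ↥At).map At.subtype ≤ At := Subgroup.map_subtype_le _
  refine ⟨(P : Subgroup ↥At).map At.subtype, P.2.map _, ?_, ?_⟩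
  · apply le_antisymm
    · rintro _ ⟨x, hx, rfl⟩
      exact hle hx
    · -- the index of the image in `A` divides a power of `p` and is prime to `p`
      let B := ((P : Subgroup ↥At).map At.subtype).map Φ
      have hBA : B ≤ A := by
        rintro _ ⟨x, hx, rfl⟩
        exact hle hx
      have h0 : Finite ↥A := by
        have : Finite ↥Φ.range := Finite.of_surjective _ Φ.rangeRestrict_surjective
        exact Finite.of_injective _ (Subgroup.inclusion_injective hAΦ)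
      have h1 : ¬ p ∣ B.relIndex A := by
        have h2 : B.relIndex A ∣ (P : Subgroup ↥At).index := by
          have h3 : (P : Subgroup ↥At).index = ((P : Subgroup ↥At).map At.subtype).relIndex At := by
            have h4 : ((P : Subgroup ↥At).map At.subtype).subgroupOf At = (P : Subgroup ↥At) := by
              rw [Subgroup.subgroupOf, Subgroup.comap_map_eq_self_of_injective At.subtype_injective]
            rw [Subgroup.relIndex, h4]
          rw [h3]
          have h5 : ((P : Subgroup ↥At).map At.subtype) ≤ B.comap Φ := Subgroup.le_comap_map _ _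
          have h6 : (B.comap Φ).relIndex At = B.relIndex (At.map Φ) := Subgroup.relIndex_comap _ _ _
          have h7 : At.map Φ = A := by
            change (A.comap Φ).map Φ = A
            rw [Subgroup.map_comap_eq]
            exact inf_eq_right.2 hAΦ
          rw [h7] at h6
          rw [← h6]
          exact Subgroup.relIndex_dvd_of_le_left _ h5
        intro hd
        exact P.not_dvd_index (hd.trans h2)
      have h2 : B.relIndex A = 1 := by
        obtain ⟨k, hk⟩ := IsPGroup.iff_card.1 hA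
        have h3 : B.relIndex A ∣ Nat.card ↥A := Subgroup.relIndex_dvd_card B A
        rw [hk] at h3
        obtain ⟨m, -, hm⟩ := (Nat.dvd_prime_pow hp.out).1 h3
        rcases Nat.eq_zero_or_pos m with rfl | hpos
        · simpa using hm
        · exfalso
          apply h1
          rw [hm]
          exact dvd_pow_self p hpos.ne'
      exact Subgroup.relIndex_eq_one.1 h2
  · have h4 : ((P : Subgroup ↥At).map At.subtype).subgroupOf At = (P : Subgroup ↥At) := by
      rw [Subgroup.subgroupOf, Subgroup.comap_map_eq_self_of_injective At.subtype_injective]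
    rw [Subgroup.relIndex, h4]
    exact P.not_dvd_index

theorem relIndex_sup_self {G' : Type*} [Group G'] [Finite G'] (A J : Subgroup G') [J.Normal] :
    A.relIndex (A ⊔ J) = A.relIndex J := by
  have h1 : (A ⊓ J).relIndex A * Nat.card ↥(A ⊓ J) = Nat.card ↥A := by
    have := Subgroup.relIndex_mul_relIndex ⊥ (A ⊓ J) A bot_le inf_le_left
    rw [Subgroup.relIndex_bot_left, Subgroup.relIndex_bot_left] at this
    rw [mul_comm]; exact this
  have h2 : (A ⊓ J).relIndex J * Nat.card ↥(A ⊓ J) = Nat.card ↥J := by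
    have := Subgroup.relIndex_mul_relIndex ⊥ (A ⊓ J) J bot_le inf_le_right
    rw [Subgroup.relIndex_bot_left, Subgroup.relIndex_bot_left] at this
    rw [mul_comm]; exact this
  have h3 : Nat.card ↥A * A.relIndex (A ⊔ J) = Nat.card ↥(A ⊔ J) := by
    have := Subgroup.relIndex_mul_relIndex ⊥ A (A ⊔ J) bot_le le_sup_left
    rw [Subgroup.relIndex_bot_left, Subgroup.relIndex_bot_left] at this
    exact this
  have h4 : Nat.card ↥J * J.relIndex (A ⊔ J) = Nat.card ↥(A ⊔ J) := by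
    have := Subgroup.relIndex_mul_relIndex ⊥ J (A ⊔ J) bot_le le_sup_right
    rw [Subgroup.relIndex_bot_left, Subgroup.relIndex_bot_left] at this
    exact this
  rw [Subgroup.relIndex_sup_right] at h4
  rw [Subgroup.inf_relIndex_left] at h1
  rw [Subgroup.inf_relIndex_right] at h2
  have h5 : 0 < Nat.card ↥A := Nat.card_pos
  apply Nat.eq_of_mul_eq_mul_left h5
  rw [h3, ← h4, ← h1, ← h2]
  ring

/-- **The covering criterion.** -/
theorem cover (Φ : Γ →* MulAut S) (H : Subgroup Γ) (hH : ¬ p ∣ H.index) {K : Type*} [Group K] [Finite K]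
    (hK : ¬ p ∣ Nat.card K) (f : ↥H →* K)
    (hx : ∃ w : ↥H, Φ w ∈ (MulAut.conj : S →* MulAut S).range ∧ f w ≠ 1) (A : Subgroup (MulAut S))
    (hA : IsPGroup p ↥A) (hAΦ : A ≤ Φ.range) (Q : Sylow p S) (hQ : (Q : Subgroup S).map MulAut.conj ≤ A) :
    ∃ (γ : Γ) (w : ↥H) (h : S), f w ≠ 1 ∧ ¬ p ∣ orderOf w ∧ Φ (γ * w * γ⁻¹) = MulAut.conj h ∧
      (∀ a ∈ A, ∃ v : ↥H, a = Φ (γ * v * γ⁻¹)) ∧
      (∀ a ∈ A, MulAut.conj h * a * (MulAut.conj h)⁻¹ ∈ A) := by
  classical
  obtain ⟨P, hP, hPA, hPi⟩ := exists_sylow_lift Φ hA hAΦ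
  obtain ⟨γ, hγ⟩ := exists_conj_le hP hH
  -- conjugate into `H`
  let c : Γ ≃* Γ := MulAut.conj γ⁻¹
  let P' : Subgroup Γ := P.map (c : Γ →* Γ)
  have hP' : IsPGroup p ↥P' := hP.map _
  have hP'H : P' ≤ H := by
    rintro _ ⟨x, hx, rfl⟩
    change γ⁻¹ * x * γ⁻¹⁻¹ ∈ H
    rw [inv_inv]
    exact hγ x hx
  let J : Subgroup (MulAut S) := (MulAut.conj : S →* MulAut S).range
  have hJn : J.Normal := by
    refine ⟨?_⟩
    rintro _ ⟨s, rfl⟩ g
    refine ⟨g s, ?_⟩
    apply MulEquiv.ext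
    intro x
    change g s * x * (g s)⁻¹ = g (s * g⁻¹ x * s⁻¹)
    rw [map_mul, map_mul, MulAut.apply_inv_self, map_inv]
  let I : Subgroup Γ := J.comap Φ
  have hIn : I.Normal := hJn.comap Φ
  have hPI : ¬ p ∣ P.relIndex (P ⊔ I) := by
    have h1 : P ⊔ I ≤ (A ⊔ J).comap Φ := by
      refine sup_le ?_ (Subgroup.comap_mono le_sup_right)
      rw [← Subgroup.map_le_iff_le_comap, hPA]
      exact le_sup_left
    have hPAc : P ≤ A.comap Φ := by rw [← Subgroup.map_le_iff_le_comap, hPA]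
    have h2 : P.relIndex (P ⊔ I) ∣ P.relIndex ((A ⊔ J).comap Φ) :=
      ⟨_, (Subgroup.relIndex_mul_relIndex P (P ⊔ I) _ le_sup_left h1).symm⟩
    have h3 : P.relIndex (A.comap Φ) * (A.comap Φ).relIndex ((A ⊔ J).comap Φ) = P.relIndex ((A ⊔ J).comap Φ) :=
      Subgroup.relIndex_mul_relIndex _ _ _ hPAc (Subgroup.comap_mono le_sup_left)
    have h4 : (A.comap Φ).relIndex ((A ⊔ J).comap Φ) ∣ A.relIndex (A ⊔ J) := by
      rw [Subgroup.relIndex_comap]
      have h5 : ((A ⊔ J).comap Φ).map Φ ≤ A ⊔ J := Subgroup.map_comap_le _ _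
      have h6 : A ≤ ((A ⊔ J).comap Φ).map Φ := by
        refine le_trans (le_of_eq hPA.symm) (Subgroup.map_mono ?_)
        exact le_sup_left.trans h1
      exact ⟨_, (Subgroup.relIndex_mul_relIndex A _ _ h6 h5).symm⟩
    have h5 : A.relIndex (A ⊔ J) = A.relIndex J := relIndex_sup_self A J
    have h6 : A.relIndex J ∣ (Q : Subgroup S).index := by
      have h7 : ((Q : Subgroup S).map MulAut.conj).relIndex J ∣ (Q : Subgroup S).index := by
        have h8 := Subgroup.relIndex_map_map (MulAut.conj : S →* MulAut S) (Q : Subgroup S) ⊤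
        rw [top_sup_eq, Subgroup.relIndex_top_right, ← MonoidHom.range_eq_map] at h8
        rw [h8]
        exact Subgroup.index_dvd_of_le le_sup_left
      exact (Subgroup.relIndex_dvd_of_le_left J hQ).trans h7
    intro hd
    have h7 := hd.trans h2
    rw [← h3] at h7
    rcases (Nat.Prime.dvd_mul hp.out).1 h7 with h8 | h8
    · exact hPi h8
    · exact Q.not_dvd_index ((h8.trans (h4.trans (by rw [h5]))).trans h6)
  have hP'I : ¬ p ∣ P'.relIndex (P' ⊔ I) := by
    have h1 : P' ⊔ I = (P ⊔ I).map (c : Γ →* Γ) := by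
      rw [Subgroup.map_sup]
      congr 1
      ext y
      constructor
      · intro hy
        refine ⟨γ * y * γ⁻¹, hIn.conj_mem y hy γ, ?_⟩
        change γ⁻¹ * (γ * y * γ⁻¹) * γ⁻¹⁻¹ = y
        group
      · rintro ⟨x, hx, rfl⟩
        exact hIn.conj_mem x hx γ⁻¹
    rw [h1, Subgroup.relIndex_map_map_of_injective _ _ c.injective]
    exact hPI
  obtain ⟨x, hx1, hx2⟩ := hx
  obtain ⟨n, hn1, hn2, hn3, hn4⟩ := frattini hP' hP'I hP'H hK f x
    (Subgroup.mem_sup_right (show (x : Γ) ∈ I from hx1)) hx2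
  have h1 : Φ (γ * n * γ⁻¹) ∈ J := by
    rw [map_mul, map_mul, map_inv]
    exact hJn.conj_mem _ hn1 _
  obtain ⟨h, hh⟩ := h1
  refine ⟨γ, n, h, hn3, hn4, hh.symm, ?_, ?_⟩
  · intro a ha
    rw [← hPA] at ha
    obtain ⟨x, hx, rfl⟩ := ha
    refine ⟨⟨γ⁻¹ * x * γ, hγ x hx⟩, ?_⟩
    congr 1
    group
  · intro a ha
    rw [← hPA] at ha ⊢
    obtain ⟨x, hx, rfl⟩ := ha
    rw [hh]
    refine ⟨γ * n * γ⁻¹ * x * (γ * n * γ⁻¹)⁻¹, ?_, by simp only [map_mul, map_inv]⟩
    have h2 : γ⁻¹ * x * γ ∈ P' := ⟨x, hx, by change γ⁻¹ * x * γ⁻¹⁻¹ = _; rw [inv_inv]⟩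
    have h3 := hn2 _ h2
    obtain ⟨y, hy, hy2⟩ := h3
    have h4 : γ⁻¹ * y * γ⁻¹⁻¹ = (n : Γ) * (γ⁻¹ * x * γ) * (n : Γ)⁻¹ := hy2
    have h5 : y = γ * n * γ⁻¹ * x * (γ * n * γ⁻¹)⁻¹ := by
      rw [inv_inv] at h4
      calc y = γ * (γ⁻¹ * y * γ) * γ⁻¹ := by group
        _ = γ * ((n : Γ) * (γ⁻¹ * x * γ) * (n : Γ)⁻¹) * γ⁻¹ := by rw [h4]
        _ = _ := by group
    rw [← h5]
    exact hy

theorem conj_injective {S : Type*} [Group S] (hc : center S = ⊥) :
    Function.Injective (MulAut.conj : S →* MulAut S) := by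
  rw [injective_iff_map_eq_one]
  intro s hs
  have h1 : s ∈ center S := by
    rw [Subgroup.mem_center_iff]
    intro g
    have h2 : MulAut.conj s g = g := by rw [hs]; rfl
    have h3 : s * g * s⁻¹ = g := h2
    calc g * s = s * g * s⁻¹ * s := by rw [h3]
      _ = s * g := by group
  rw [hc] at h1
  exact Subgroup.mem_bot.1 h1

/-- **The covering criterion, strong form**: the `p'`-element normalising `A` does not centralise the Sylow subgroup
`Q`. -/
theorem cover_strong (hc : center S = ⊥) (Φ : Γ →* MulAut S) (H : Subgroup Γ) (hH : ¬ p ∣ H.index) {K : Type*}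
    [Group K] [Finite K] (hK : ¬ p ∣ Nat.card K) (f : ↥H →* K)
    (hx : ∃ w : ↥H, Φ w ∈ (MulAut.conj : S →* MulAut S).range ∧ f w ≠ 1) (T : Subgroup S) (hT : IsPGroup p ↥T)
    (hTn : ∀ w : ↥H, Φ w ∈ (MulAut.conj : S →* MulAut S).range → ∀ t ∈ T, Φ w t ∈ T)
    (hTf : ∀ w : ↥H, ¬ p ∣ orderOf w → Φ w ∈ (MulAut.conj : S →* MulAut S).range → f w ≠ 1 → ∃ t ∈ T, Φ w t ≠ t)
    (A : Subgroup (MulAut S)) (hA : IsPGroup p ↥A) (hAΦ : A ≤ Φ.range) (Q : Sylow p S)
    (hQ : (Q : Subgroup S).map MulAut.conj ≤ A) :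
    ∃ h : S, ¬ p ∣ orderOf h ∧ (∀ a ∈ A, MulAut.conj h * a * (MulAut.conj h)⁻¹ ∈ A) ∧
      ∃ t ∈ (Q : Subgroup S), h * t * h⁻¹ ≠ t := by
  obtain ⟨γ, w, h, hfw, hw, hh, hAH, hN⟩ := cover Φ H hH hK f hx A hA hAΦ Q hQ
  have hinj := conj_injective hc
  have hJn : ∀ (g : MulAut S) (a : MulAut S), a ∈ (MulAut.conj : S →* MulAut S).range →
      g * a * g⁻¹ ∈ (MulAut.conj : S →* MulAut S).range := by
    rintro g _ ⟨s, rfl⟩
    refine ⟨g s, ?_⟩
    apply MulEquiv.ext
    intro x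
    change g s * x * (g s)⁻¹ = g (s * g⁻¹ x * s⁻¹)
    rw [map_mul, map_mul, MulAut.apply_inv_self, map_inv]
  have hΦw : Φ w = (Φ γ)⁻¹ * MulAut.conj h * Φ γ := by
    rw [← hh, map_mul, map_mul, map_inv]
    group
  have hwJ : Φ w ∈ (MulAut.conj : S →* MulAut S).range := by
    rw [hΦw]
    have := hJn (Φ γ)⁻¹ (MulAut.conj h) ⟨h, rfl⟩
    rwa [inv_inv] at this
  obtain ⟨t, ht, htw⟩ := hTf w hw hwJ hfw
  -- `Φ(γ)(T) ≤ Q`
  let Tγ : Subgroup S := T.map (Φ γ : S →* S)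
  have hTγ : IsPGroup p ↥Tγ := hT.map _
  have hTγn : (Q : Subgroup S) ≤ normalizer (Tγ : Set S) := by
    intro s hs
    have key : ∀ s : S, s ∈ (Q : Subgroup S) → ∀ x ∈ Tγ, s * x * s⁻¹ ∈ Tγ := by
      rintro s hs _ ⟨x, hx, rfl⟩
      obtain ⟨v, hv⟩ := hAH (MulAut.conj s) (hQ ⟨s, hs, rfl⟩)
      have h1 : Φ v = (Φ γ)⁻¹ * MulAut.conj s * Φ γ := by
        rw [hv, map_mul, map_mul, map_inv]
        group
      have h2 : Φ v ∈ (MulAut.conj : S →* MulAut S).range := by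
        rw [h1]
        have := hJn (Φ γ)⁻¹ (MulAut.conj s) ⟨s, rfl⟩
        rwa [inv_inv] at this
      refine ⟨Φ v x, hTn v h2 x hx, ?_⟩
      change Φ γ (Φ v x) = s * Φ γ x * s⁻¹
      rw [h1]
      change Φ γ ((Φ γ)⁻¹ (MulAut.conj s (Φ γ x))) = s * Φ γ x * s⁻¹
      rw [MulAut.apply_inv_self]
      rfl
    rw [Subgroup.mem_normalizer_iff]
    intro x
    constructor
    · exact key s hs x
    · intro h1
      have h2 := key s⁻¹ ((Q : Subgroup S).inv_mem hs) _ h1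
      have h3 : s⁻¹ * (s * x * s⁻¹) * s⁻¹⁻¹ = x := by group
      rwa [h3] at h2
  have hTQ : Tγ ≤ (Q : Subgroup S) := by
    have h1 : IsPGroup p ↥((Q : Subgroup S) ⊔ Tγ) := Q.2.to_sup_of_normal_right' hTγ hTγn
    have h2 : (Q : Subgroup S) ⊔ Tγ = Q := Q.3 h1 le_sup_left
    rw [← h2]
    exact le_sup_right
  refine ⟨h, ?_, hN, Φ γ t, hTQ ⟨t, ht, rfl⟩, ?_⟩
  · intro hd
    apply hw
    rw [← MonoidHom.map_inv] at hN
    have h1 : orderOf h = orderOf (MulAut.conj h) := (orderOf_injective _ hinj h).symm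
    have h2 : orderOf (MulAut.conj h) ∣ orderOf w := by
      rw [← hh]
      have h3 : orderOf (γ * (w : Γ) * γ⁻¹) = orderOf w := by
        have h4 : γ * (w : Γ) * γ⁻¹ = MulAut.conj γ (w : Γ) := rfl
        rw [h4]
        have h5 : orderOf ((MulAut.conj γ) (w : Γ)) = orderOf (w : Γ) :=
          orderOf_injective ((MulAut.conj γ : Γ ≃* Γ) : Γ →* Γ) (MulAut.conj γ).injective _
        rw [h5, Subgroup.orderOf_coe]
      rw [← h3]
      exact orderOf_map_dvd Φ _
    exact (h1 ▸ hd).trans h2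
  · intro h1
    apply htw
    rw [hΦw]
    change (Φ γ)⁻¹ (h * (Φ γ t) * h⁻¹) = t
    rw [h1, MulAut.inv_apply_self]

end Cover

end Cfsg.Agent.H507.Gmn
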