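import Mathlib
import Cfsg.Agent.H507.PiExt
import Cfsg.Agent.SignalizersComponents.CoprimeBasic
import Cfsg.Prelude.Def_HallClasses

/-!
# `D_π`-groups

`DPi π G`: there is a Hall `π`-subgroup containing a conjugate of every `π`-subgroup. It follows from
`Cfsg.IsDPiGroup π G` and passes to quotients by normal `π`- and `π'`-subgroups.
-/

set_option autoImplicit false
set_option linter.dupNamespace false

namespace Cfsg.Agent.H507.DPi

open Subgroup Cfsg.Agent.H506.PiHomog Cfsg.Agent.H507.PiExt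
open scoped Pointwise

/-- `H` is a Hall `π`-subgroup containing a conjugate of every `π`-subgroup. -/
structure DHall (π : Set ℕ) {G : Type*} [Group G] (H : Subgroup G) : Prop where
  card : PiNum π (Nat.card H)
  index : PiNum πᶜ H.index
  dom : ∀ K : Subgroup G, PiNum π (Nat.card K) → ∃ g : G, K.map (MulAut.conj g).toMonoidHom ≤ H

/-- There is a dominant Hall `π`-subgroup. -/
def DPi (π : Set ℕ) (G : Type*) [Group G] : Prop := ∃ H : Subgroup G, DHall π H

theorem piNum_of_isPGroup {π : Set ℕ} {G : Type*} [Group G] [Finite G] {p : ℕ} (hp : p.Prime)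
    (hpπ : p ∈ π) (h : IsPGroup p G) : PiNum π (Nat.card G) := by
  have : Fact p.Prime := ⟨hp⟩
  obtain ⟨n, hn⟩ := IsPGroup.iff_card.mp h
  intro q hq hqd
  rw [hn] at hqd
  rwa [(Nat.prime_dvd_prime_iff_eq hq hp).1 (hq.dvd_of_dvd_pow hqd)]

theorem card_map_conj {G : Type*} [Group G] (K : Subgroup G) (g : G) :
    Nat.card (K.map (MulAut.conj g).toMonoidHom : Subgroup G) = Nat.card K :=
  Subgroup.card_map_of_injective (f := (MulAut.conj g).toMonoidHom) (MulAut.conj g).injective

theorem index_map_conj {G : Type*} [Group G] (K : Subgroup G) (g : G) :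
    (K.map (MulAut.conj g).toMonoidHom).index = K.index :=
  Subgroup.index_map_equiv K (MulAut.conj g)

theorem map_conj_map_conj {G : Type*} [Group G] (A : Subgroup G) (g h : G) :
    (A.map (MulAut.conj g).toMonoidHom).map (MulAut.conj h).toMonoidHom =
      A.map (MulAut.conj (h * g)).toMonoidHom := by
  rw [Subgroup.map_map, map_mul]
  rfl

theorem map_conj_inv_map_conj {G : Type*} [Group G] (A : Subgroup G) (g : G) :
    (A.map (MulAut.conj g).toMonoidHom).map (MulAut.conj g⁻¹).toMonoidHom = A := by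
  rw [map_conj_map_conj, inv_mul_cancel, map_one]
  exact Subgroup.map_id A

theorem dPi_of_isDPiGroup {π : Set ℕ} {G : Type*} [Group G] [Finite G]
    (h : Cfsg.IsDPiGroup π G) : DPi π G := by
  obtain ⟨H, hH⟩ := (Set.toFinite {K : Subgroup G | Cfsg.IsPiSubgroup π K}).exists_maximal
    ⟨⊥, fun p hp hd => by
      rw [Subgroup.card_bot] at hd
      exact absurd (Nat.dvd_one.1 hd) hp.ne_one⟩
  have hdom : ∀ K : Subgroup G, PiNum π (Nat.card K) →
      ∃ g : G, K.map (MulAut.conj g).toMonoidHom ≤ H := by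
    intro K hK
    obtain ⟨K', hKK', hK'⟩ := (Set.toFinite {K : Subgroup G | Cfsg.IsPiSubgroup π K}).exists_le_maximal
      (show K ∈ {K : Subgroup G | Cfsg.IsPiSubgroup π K} from hK)
    obtain ⟨g, hg⟩ := h K' H hK' hH
    exact ⟨g, hg ▸ Subgroup.map_mono hKK'⟩
  refine ⟨H, hH.prop, ?_, hdom⟩
  intro p hp hpi hpπ
  have : Fact p.Prime := ⟨hp⟩
  let P : Sylow p G := default
  obtain ⟨g, hg⟩ := hdom P (piNum_of_isPGroup hp hpπ P.isPGroup')
  have h1 := Subgroup.index_dvd_of_le hg
  rw [index_map_conj] at h1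
  exact P.not_dvd_index (hpi.trans h1)

/-- `DPi` passes to a quotient if `π`-subgroups lift to `π`-subgroups. -/
theorem DPi.quotient_of_lift {π : Set ℕ} {G : Type*} [Group G] [Finite G] (h : DPi π G)
    (N : Subgroup G) [N.Normal]
    (hlift : ∀ K : Subgroup (G ⧸ N), PiNum π (Nat.card K) →
      ∃ U : Subgroup G, PiNum π (Nat.card U) ∧ U.map (QuotientGroup.mk' N) = K) :
    DPi π (G ⧸ N) := by
  obtain ⟨H, hH⟩ := h
  refine ⟨H.map (QuotientGroup.mk' N), ?_, ?_, ?_⟩
  · exact hH.card.mono (Subgroup.card_map_dvd H (QuotientGroup.mk' N))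
  · exact hH.index.mono (Subgroup.index_map_dvd H (QuotientGroup.mk'_surjective N))
  · intro K hK
    obtain ⟨U, hU, hUK⟩ := hlift K hK
    obtain ⟨g, hg⟩ := hH.dom U hU
    refine ⟨QuotientGroup.mk' N g, ?_⟩
    rw [← hUK]
    have h1 := Subgroup.map_mono (f := QuotientGroup.mk' N) hg
    rw [Subgroup.map_map] at h1 ⊢
    have h2 : (QuotientGroup.mk' N).comp (MulAut.conj g).toMonoidHom =
        (MulAut.conj (QuotientGroup.mk' N g)).toMonoidHom.comp (QuotientGroup.mk' N) := by
      ext x
      simp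
    rwa [h2] at h1

theorem DPi.quotient_of_pi {π : Set ℕ} {G : Type*} [Group G] [Finite G] (h : DPi π G)
    (N : Subgroup G) [N.Normal] (hN : PiNum π (Nat.card N)) : DPi π (G ⧸ N) := by
  refine h.quotient_of_lift N fun K hK => ⟨K.comap (QuotientGroup.mk' N), ?_, ?_⟩
  · rw [card_comap_mk]
    exact hN.mul hK
  · exact Subgroup.map_comap_eq_self_of_surjective (QuotientGroup.mk'_surjective N) K

theorem DPi.quotient_of_pi' {π : Set ℕ} {G : Type*} [Group G] [Finite G] (h : DPi π G)
    (N : Subgroup G) [N.Normal] (hN : PiNum πᶜ (Nat.card N)) : DPi π (G ⧸ N) := by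
  refine h.quotient_of_lift N fun K hK => ?_
  set S := K.comap (QuotientGroup.mk' N) with hS
  have hNS : N ≤ S := by
    intro k hk
    have h1 : QuotientGroup.mk' N k = 1 := (QuotientGroup.eq_one_iff (N := N) k).2 hk
    rw [hS, Subgroup.mem_comap, h1]
    exact K.one_mem
  have hcardN : Nat.card (N.subgroupOf S) = Nat.card N :=
    Nat.card_congr (Subgroup.subgroupOfEquivOfLe hNS).toEquiv
  have hcardS : Nat.card S = Nat.card N * Nat.card K := card_comap_mk N K
  have hidx : (N.subgroupOf S).index = Nat.card K := by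
    have h1 := Subgroup.card_mul_index (N.subgroupOf S)
    rw [hcardN, hcardS] at h1
    exact Nat.eq_of_mul_eq_mul_left Nat.card_pos h1
  have hcop : (Nat.card (N.subgroupOf S)).Coprime (N.subgroupOf S).index := by
    rw [hcardN, hidx]
    exact PiNum.coprime' hN hK
  obtain ⟨C, hC⟩ := Subgroup.exists_right_complement'_of_coprime hcop
  have hCc : Nat.card C = Nat.card K := by rw [← hC.symm.index_eq_card, hidx]
  refine ⟨C.map S.subtype, ?_, ?_⟩
  · rw [Subgroup.card_map_of_injective S.subtype_injective, hCc]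
    exact hK
  · apply le_antisymm
    · rintro _ ⟨_, ⟨x, -, rfl⟩, rfl⟩
      exact x.2
    · intro y hy
      obtain ⟨g, rfl⟩ := QuotientGroup.mk'_surjective N y
      obtain ⟨⟨n, c⟩, hnc⟩ := hC.2 ⟨g, hy⟩
      have h1 : ((n : S) : G) * ((c : S) : G) = g := congrArg Subtype.val hnc
      refine ⟨((c : S) : G), ⟨c, c.2, rfl⟩, ?_⟩
      rw [← h1, map_mul]
      have h2 : QuotientGroup.mk' N ((n : S) : G) = 1 := (QuotientGroup.eq_one_iff _).2 n.2
      rw [h2, one_mul]

/-- `π'`-closedness passes to homomorphic images. -/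
theorem ClosedPr.of_surjective {π : Set ℕ} {G G' : Type*} [Group G] [Group G'] [Finite G]
    (h : ClosedPr π G) (f : G →* G') (hf : Function.Surjective f) : ClosedPr π G' :=
  ClosedPr.of_mulEquiv (QuotientGroup.quotientKerEquivOfSurjective f hf) (h.quotient f.ker)

/-- Proper subgroups of a quotient are `π'`-closed if those of the group are. -/
theorem closedPr_subgroup_quotient {π : Set ℕ} {G : Type*} [Group G] [Finite G]
    (h : ∀ M : Subgroup G, M ≠ ⊤ → ClosedPr π M) (N : Subgroup G) [N.Normal]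
    (M : Subgroup (G ⧸ N)) (hM : M ≠ ⊤) : ClosedPr π M := by
  have h1 : M.comap (QuotientGroup.mk' N) ≠ ⊤ := by
    intro h2
    apply hM
    rw [← Subgroup.map_comap_eq_self_of_surjective (QuotientGroup.mk'_surjective N) M, h2,
      ← MonoidHom.range_eq_map, QuotientGroup.range_mk']
  let f : M.comap (QuotientGroup.mk' N) →* M :=
    ((QuotientGroup.mk' N).comp (M.comap (QuotientGroup.mk' N)).subtype).codRestrict M (fun s => s.2)
  refine ClosedPr.of_surjective (h _ h1) f ?_
  rintro ⟨y, hy⟩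
  obtain ⟨g, rfl⟩ := QuotientGroup.mk'_surjective N y
  exact ⟨⟨g, hy⟩, rfl⟩

/-- The sup of two commuting `π`-subgroups is a `π`-subgroup. -/
theorem piNum_sup_of_normal {π : Set ℕ} {G : Type*} [Group G] [Finite G] {A B : Subgroup G}
    (hA : PiNum π (Nat.card A)) (hB : PiNum π (Nat.card B)) (hAB : B ≤ normalizer (A : Set G)) :
    PiNum π (Nat.card (A ⊔ B : Subgroup G)) := by
  exact (hA.mul hB).mono (Cfsg.Agent.SignalizersComponents.CoprimeBasic.card_sup_dvd hAB)

end Cfsg.Agent.H507.DPi
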