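import Mathlib
import Cfsg.Agent.H507.DPi
import Cfsg.Agent.H507.SzBorel
import Cfsg.Agent.ThreePrime.Main
import Cfsg.Agent.SignalizersComponents.CharP
import Cfsg.Agent.SignalizersComponents.LayerCenter
import Cfsg.Agent.S1265

/-!
# `D_π` and `π`-homogeneous groups of order prime to 3, `2 ∈ π`

`closedPr_of_three`: a finite group `G` of order prime to 3 with a dominant Hall `π`-subgroup and
`PHomog π G`, `2 ∈ π`, is `π'`-closed.
-/

set_option autoImplicit false

namespace Cfsg.Agent.H507.SzCase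

open Subgroup Cfsg Cfsg.Agent.H506.PiHomog Cfsg.Agent.H507.PiExt Cfsg.Agent.H507.DPi
  Cfsg.Agent.H507.SzBorel Cfsg.Agent.SignalizersComponents
open scoped Pointwise

universe u

theorem piNum_prod {π : Set ℕ} {ι : Type*} (s : Finset ι) (f : ι → ℕ) (h : ∀ i ∈ s, PiNum π (f i)) :
    PiNum π (∏ i ∈ s, f i) := by
  intro p hp hd
  obtain ⟨i, hi, hid⟩ := (hp.prime.dvd_finsetProd_iff _).1 hd
  exact h i hi p hp hid

/-- A product of pairwise commuting `π`-subgroups is a `π`-subgroup. -/
theorem piNum_iSup {π : Set ℕ} {G : Type*} [Group G] [Finite G] {ι : Type*} [Finite ι]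
    (A : ι → Subgroup G) (hc : Pairwise fun i j => ∀ x y : G, x ∈ A i → y ∈ A j → Commute x y)
    (h : ∀ i, PiNum π (Nat.card (A i))) : PiNum π (Nat.card (⨆ i, A i : Subgroup G)) := by
  classical
  have := Fintype.ofFinite ι
  rw [← noncommPiCoprod_range (hcomm := hc)]
  have h1 : Nat.card (noncommPiCoprod hc).range ∣ Nat.card (∀ i, A i) :=
    Subgroup.card_range_dvd _
  refine PiNum.mono ?_ h1
  rw [Nat.card_pi]
  exact piNum_prod _ _ fun i _ => h i

theorem card_zpowers_piNum {π : Set ℕ} {G : Type*} [Group G] {B : Subgroup G} (hB : PiNum π (Nat.card B))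
    {y : G} (hy : y ∈ B) : PiNum π (Nat.card (zpowers y)) := by
  rw [Nat.card_zpowers]
  exact piNum_orderOf_of_mem hB hy

/-- No nontrivial normal `p`-subgroup: the Fitting subgroup is trivial. -/
theorem fitting_eq_bot {G : Type*} [Group G] [Finite G]
    (h : ∀ p : ℕ, p.Prime → ∀ N : Subgroup G, N.Normal → IsPGroup p N → N = ⊥) :
    fittingSubgroup G = ⊥ := by
  rw [eq_bot_iff, fittingSubgroup, sSup_le_iff]
  rintro N ⟨hN, hnil⟩
  rw [le_bot_iff]
  by_contra hne
  have h1 : Nat.card N ≠ 1 := by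
    rw [Ne, Subgroup.card_eq_one]
    exact hne
  obtain ⟨p, hp, hpd⟩ := Nat.exists_prime_and_dvd h1
  have : Fact p.Prime := ⟨hp⟩
  let P : Sylow p N := default
  have hPn : (P : Subgroup N).Normal := inferInstance
  have hPc : (P : Subgroup N).Characteristic := P.characteristic_of_normal hPn
  have hn : ((P : Subgroup N).map N.subtype).Normal := ConjAct.normal_of_characteristic_of_normal
  have h2 := h p hp _ hn (P.isPGroup'.map _)
  rw [Subgroup.map_eq_bot_iff_of_injective _ N.subtype_injective] at h2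
  exact P.ne_bot_of_dvd_card hpd h2

theorem isNilpotent_of_comm {L : Type*} [Group L] (h : ∀ a b : L, a * b = b * a) :
    Group.IsNilpotent L := by
  let : CommGroup L := { (inferInstance : Group L) with mul_comm := h }
  exact CommGroup.isNilpotent

/-- If the Fitting subgroup is trivial, components are simple and nonabelian. -/
theorem component_simple {G : Type*} [Group G] [Finite G] (hF : fittingSubgroup G = ⊥)
    {L : Subgroup G} (hL : IsComponent L) : IsSimpleGroup L := by
  have h1 : ((center L).map L.subtype).IsSubnormal := by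
    have h2 : (center L).IsSubnormal := Subgroup.Normal.isSubnormal inferInstance
    exact h2.trans' hL.1
  have h2 : Group.IsNilpotent ((center L).map L.subtype : Subgroup G) := by
    have : Group.IsNilpotent (center L) :=
      isNilpotent_of_comm fun a b => Subtype.ext (mem_center_iff.1 b.2 a)
    exact Group.nilpotent_of_mulEquiv ((center L).equivMapOfInjective L.subtype L.subtype_injective)
  have h3 := CharP.subnormal_nilpotent_le_fitting h1 h2
  rw [hF, le_bot_iff, Subgroup.map_eq_bot_iff_of_injective _ L.subtype_injective] at h3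
  have h4 := hL.2.2
  have e : (L ⧸ center L) ≃* L :=
    (QuotientGroup.quotientMulEquivOfEq h3).trans QuotientGroup.quotientBot
  exact (MulEquiv.isSimpleGroup_congr e).mp h4

/-- The hypotheses: 2 ∈ π, dominant Hall subgroup, homogeneous, order prime to 3, no normal π- or π'-subgroups -/
structure Hyp (π : Set ℕ) (G : Type*) [Group G] (H : Subgroup G) : Prop where
  two : 2 ∈ π
  hall : DHall π H
  hom : PHomog π G
  three : ¬ 3 ∣ Nat.card G
  norm : ∀ N : Subgroup G, N.Normal → PiNum π (Nat.card N) → N = ⊥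
  norm' : ∀ N : Subgroup G, N.Normal → PiNum πᶜ (Nat.card N) → N = ⊥

section

variable {π : Set ℕ} {G : Type*} [Group G] [Finite G] {H : Subgroup G}

theorem Hyp.fitting (h : Hyp π G H) : fittingSubgroup G = ⊥ := by
  refine fitting_eq_bot fun p hp N hN hNp => ?_
  by_cases hpπ : p ∈ π
  · exact h.norm N hN (piNum_of_isPGroup hp hpπ hNp)
  · exact h.norm' N hN (piNum_of_isPGroup (π := πᶜ) hp hpπ hNp)

theorem Hyp.exists_component (h : Hyp π G H) [Nontrivial G] : ∃ L : Subgroup G, IsComponent L := by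
  by_contra hcon
  push Not at hcon
  have h1 : layer G = ⊥ := by
    rw [eq_bot_iff, Components.layer_le_iff]
    intro K hK
    exact absurd hK (hcon K)
  have h2 : generalizedFittingSubgroup G = ⊥ := by
    rw [generalizedFittingSubgroup, h1, h.fitting, bot_sup_eq]
  have h3 := Cfsg.Agent.S1265.result (G := G)
  rw [h2] at h3
  have h4 : centralizer ((⊥ : Subgroup G) : Set G) = ⊤ := by
    rw [eq_top_iff]
    intro x _
    rw [mem_centralizer_iff]
    intro y hy
    rw [SetLike.mem_coe, mem_bot] at hy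
    rw [hy, one_mul, mul_one]
  rw [h4] at h3
  exact top_ne_bot (α := Subgroup G) (le_bot_iff.1 h3)

theorem Hyp.exists_szL (h : Hyp π G H) {L : Subgroup G} (hL : IsComponent L) : ∃ T, SzL L T := by
  have h1 := component_simple h.fitting hL
  refine SzBorel.exists_szL L (ThreePrime.Main.isoSuzuki ?_ ?_)
  · by_contra hcon
    push Not at hcon
    exact Components.quasisimple_not_isMulCommutative hL.2 ⟨⟨hcon⟩⟩
  · exact fun hd => h.three (hd.trans (Subgroup.card_subgroup_dvd_card L))

/-- The Borel subgroup is a `π`-group. -/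
theorem Hyp.borel (h : Hyp π G H) {L T : Subgroup G} (hT : SzL L T) :
    PiNum π (Nat.card (normalizer (T : Set G) ⊓ L : Subgroup G)) := by
  intro q hq hqd
  by_contra hqπ
  have : Fact q.Prime := ⟨hq⟩
  obtain ⟨x, hx⟩ := exists_prime_orderOf_dvd_card' (G := (normalizer (T : Set G) ⊓ L : Subgroup G)) q hqd
  have hxo : orderOf (x : G) = q := by rw [Subgroup.orderOf_coe, hx]
  have h1 : PiNum πᶜ (orderOf (x : G)) := by
    rw [hxo]
    intro r hr hrq
    rw [(Nat.prime_dvd_prime_iff_eq hr hq).1 hrq]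
    exact hqπ
  have h2 := h.hom 2 Nat.prime_two h.two T hT.two x x.2.1 h1
  have h3 := hT.cent x x.2 h2
  have h4 : PiNum π (orderOf (x : G)) :=
    piNum_orderOf_of_mem (piNum_of_isPGroup Nat.prime_two h.two hT.two) h3
  exact hqπ (h4 q hq (hxo ▸ dvd_rfl))

/-- A component is not a `π`-group. -/
theorem Hyp.not_piNum (h : Hyp π G H) {M : Subgroup G} (hM : IsComponent M) :
    ¬ PiNum π (Nat.card M) := by
  intro hMπ
  let ι := {K : Subgroup G // IsComponent K ∧ PiNum π (Nat.card K)}
  let A : ι → Subgroup G := fun i => i.1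
  have hA : (⨆ i, A i).Normal := by
    refine ⟨fun n hn g => ?_⟩
    have h1 : (⨆ i, A i).map (MulAut.conj g).toMonoidHom ≤ ⨆ i, A i := by
      rw [Subgroup.map_iSup]
      refine iSup_le fun i => ?_
      refine le_iSup_of_le (⟨(A i).map (MulAut.conj g).toMonoidHom,
        Components.isComponent_conj g i.2.1, by rw [card_map_conj]; exact i.2.2⟩ : ι) le_rfl
    exact h1 ⟨n, hn, rfl⟩
  have h2 := h.norm _ hA (piNum_iSup A (fun i j hij x y hx hy => by
    have := LayerCenter.pairwise_commute_component (G := G)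
      (i := ⟨i.1, i.2.1⟩) (j := ⟨j.1, j.2.1⟩) (by
        intro hc
        exact hij (Subtype.ext (congrArg (fun z : {K : Subgroup G // IsComponent K} => (z : Subgroup G)) hc)))
    exact this x y hx hy) (fun i => i.2.2))
  have h3 : M ≤ ⨆ i, A i := le_iSup A (⟨M, hM, hMπ⟩ : ι)
  rw [h2, le_bot_iff] at h3
  exact Components.component_ne_bot hM h3

/-- The intersection of a component with `H` is a Borel subgroup. -/
theorem Hyp.inter (h : Hyp π G H) {M : Subgroup G} (hM : IsComponent M) :
    ∃ T, SzL M T ∧ M ⊓ H = normalizer (T : Set G) ⊓ M := by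
  choose! T hT using fun (L : {K : Subgroup G // IsComponent K}) => h.exists_szL L.2
  let B : {K : Subgroup G // IsComponent K} → Subgroup G := fun L => normalizer (T L : Set G) ⊓ L
  have h1 : PiNum π (Nat.card (⨆ L, B L : Subgroup G)) := by
    refine piNum_iSup B (fun K L hKL x y hx hy => ?_) fun L => h.borel (hT L)
    exact LayerCenter.pairwise_commute_component hKL x y hx.2 hy.2
  obtain ⟨g, hg⟩ := h.hall.dom _ h1
  set L : {K : Subgroup G // IsComponent K} :=
    ⟨M.map (MulAut.conj g⁻¹).toMonoidHom, Components.isComponent_conj g⁻¹ hM⟩ with hL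
  have h2 : (L : Subgroup G).map (MulAut.conj g).toMonoidHom = M := by
    have := map_conj_inv_map_conj M g⁻¹
    rwa [inv_inv] at this
  have h3 := (hT L).map (MulAut.conj g)
  have h4 := normalizer_map_inf (L : Subgroup G) (T L) (MulAut.conj g)
  rw [h2] at h3 h4
  refine ⟨_, h3, ?_⟩
  have h5 : normalizer (((T L).map (MulAut.conj g).toMonoidHom : Subgroup G) : Set G) ⊓ M ≤ H := by
    rw [h4]
    exact (Subgroup.map_mono (le_iSup B L)).trans hg
  rcases h3.max (M ⊓ H) (le_inf inf_le_right h5) inf_le_left with h6 | h6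
  · exact h6
  · exfalso
    apply h.not_piNum hM
    rw [inf_eq_left] at h6
    exact h.hall.card.mono (Subgroup.card_dvd_of_le h6)

omit [Finite G] in
theorem eq_one_of_two_odd {T : Subgroup G} (hT : IsPGroup 2 T) {y : G} (hy : y * y ∈ T)
    (ho : Odd (orderOf y)) : y = 1 := by
  obtain ⟨k, hk⟩ := hT ⟨y * y, hy⟩
  have h1 : (y * y) ^ 2 ^ k = 1 := congrArg Subtype.val hk
  have h2 : y ^ 2 ^ (k + 1) = 1 := by
    rw [pow_succ', pow_mul, pow_two]
    exact h1
  have h3 : orderOf y ∣ 2 ^ (k + 1) := orderOf_dvd_of_pow_eq_one h2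
  have h4 : Nat.Coprime (orderOf y) (2 ^ (k + 1)) :=
    Nat.Coprime.pow_right _ (Nat.Coprime.symm (Nat.coprime_two_left.2 ho))
  have h5 := Nat.Coprime.eq_one_of_dvd h4 h3
  exact orderOf_eq_one_iff.1 h5

theorem Hyp.false (h : Hyp π G H) [Nontrivial G] : False := by
  obtain ⟨M, hM⟩ := h.exists_component
  obtain ⟨T, hT⟩ := h.exists_szL hM
  obtain ⟨t, htM, y, hy, htt, hty, hy1, hyo⟩ := hT.dih
  -- the dihedral group is a `π`-group
  have hnorm : zpowers t ≤ normalizer (zpowers y : Set G) := by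
    rw [zpowers_le]
    apply mem_normalizer_of_forall
    rintro _ ⟨n, rfl⟩
    show t * y ^ n * t⁻¹ ∈ zpowers y
    rw [← conj_zpow, hty]
    exact (zpowers y).zpow_mem ((zpowers y).inv_mem (mem_zpowers y)) n
  have hD : PiNum π (Nat.card (zpowers y ⊔ zpowers t : Subgroup G)) := by
    refine piNum_sup_of_normal (card_zpowers_piNum (h.borel hT) hy) ?_ hnorm
    rw [Nat.card_zpowers]
    have h1 : orderOf t ∣ 2 := orderOf_dvd_of_pow_eq_one (by rw [pow_two, htt])
    refine PiNum.mono ?_ h1
    intro p hp hpd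
    rw [(Nat.prime_dvd_prime_iff_eq hp Nat.prime_two).1 hpd]
    exact h.two
  obtain ⟨a, ha⟩ := h.hall.dom _ hD
  obtain ⟨T', hT', hinter⟩ := h.inter (Components.isComponent_conj a hM)
  have ht' : MulAut.conj a t ∈ normalizer (T' : Set G) ⊓ M.map (MulAut.conj a).toMonoidHom := by
    rw [← hinter]
    exact ⟨⟨t, htM, rfl⟩, ha ⟨t, (le_sup_right : zpowers t ≤ _) (mem_zpowers t), rfl⟩⟩
  have hy' : MulAut.conj a y ∈ normalizer (T' : Set G) ⊓ M.map (MulAut.conj a).toMonoidHom := by
    rw [← hinter]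
    exact ⟨⟨y, hy.2, rfl⟩, ha ⟨y, (le_sup_left : zpowers y ≤ _) (mem_zpowers y), rfl⟩⟩
  have htT : MulAut.conj a t ∈ T' := by
    refine hT'.inv _ ht' ?_
    rw [← map_mul, htt, map_one]
  have hyy : MulAut.conj a y * MulAut.conj a y ∈ T' := by
    have h1 : y * y = (y * t * y⁻¹) * t⁻¹ := by
      have h2 : t * y⁻¹ * t⁻¹ = y := by
        have h3 := congrArg (·⁻¹) hty
        simp only [mul_inv_rev, inv_inv] at h3
        rw [← mul_assoc] at h3
        exact h3
      calc y * y = y * (t * y⁻¹ * t⁻¹) := by rw [h2]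
        _ = (y * t * y⁻¹) * t⁻¹ := by group
    rw [← map_mul, h1, map_mul, map_mul, map_mul, map_inv, map_inv]
    exact T'.mul_mem ((mem_normalizer_iff.1 hy'.1 _).1 htT) (T'.inv_mem htT)
  have h3 := eq_one_of_two_odd hT'.two hyy (by rw [MulEquiv.orderOf_eq]; exact hyo)
  exact hy1 ((MulAut.conj a).injective (by rw [h3, map_one]))

end

/-- **Case `2 ∈ π`, order prime to 3.** -/
theorem closedPr_of_three {π : Set ℕ} (h2 : 2 ∈ π) (n : ℕ) : ∀ (G : Type u) [Group G] [Finite G],
    Nat.card G = n → ¬ 3 ∣ Nat.card G → DPi π G → PHomog π G → ClosedPr π G := by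
  induction n using Nat.strong_induction_on with
  | _ n ih =>
    intro G _ _ hn h3 hD hhom
    have hq : ∀ N : Subgroup G, ∀ [N.Normal], N ≠ ⊥ → Nat.card (G ⧸ N) < n ∧ ¬ 3 ∣ Nat.card (G ⧸ N) := by
      intro N _ hN
      have h4 := Subgroup.card_mul_index N
      have h5 : N.index = Nat.card (G ⧸ N) := rfl
      rw [h5] at h4
      have h6 : 1 < Nat.card N := by
        rw [Subgroup.one_lt_card_iff_ne_bot]
        exact hN
      have h7 : 0 < Nat.card (G ⧸ N) := Nat.card_pos
      refine ⟨?_, fun hd => h3 ?_⟩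
      · rw [← hn, ← h4]
        nlinarith
      · rw [← h4]
        exact hd.mul_left _
    by_cases hN1 : ∀ N : Subgroup G, N.Normal → PiNum π (Nat.card N) → N = ⊥
    swap
    · push Not at hN1
      obtain ⟨N, hNn, hNc, hNb⟩ := hN1
      obtain ⟨h5, h6⟩ := hq N hNb
      exact closedPr_of_quotient_pi hhom N hNc
        (ih _ h5 (G ⧸ N) rfl h6 (hD.quotient_of_pi N hNc) (hhom.quotient N))
    by_cases hN2 : ∀ N : Subgroup G, N.Normal → PiNum πᶜ (Nat.card N) → N = ⊥
    swap
    · push Not at hN2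
      obtain ⟨N, hNn, hNc, hNb⟩ := hN2
      obtain ⟨h5, h6⟩ := hq N hNb
      exact closedPr_of_quotient N hNc
        (ih _ h5 (G ⧸ N) rfl h6 (hD.quotient_of_pi' N hNc) (hhom.quotient N))
    obtain ⟨H, hH⟩ := hD
    rcases subsingleton_or_nontrivial G with hs | hnt
    · refine closedPr_of_piNum ?_
      have : Nat.card G = 1 := Nat.card_unique
      rw [this]
      exact PiNum.one _
    · exact (Hyp.false ⟨h2, hH, hhom, h3, hN1, hN2⟩).elim

end Cfsg.Agent.H507.SzCase
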