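import Mathlib

/-!
# The monomial subgroup of `GL_n(F)`

* `mono π d` : the monomial matrix with entry `d j` in position `(π j, j)`;
* `Mon` : the group of monomial matrices, `permHom : Mon →* Perm ι`, `card_Mon` : its order is `n! (q-1)^n`;
* `not_dvd_index` : for `p` an odd prime dividing `q - 1` the index of `Mon` in `GL_n(q)` is prime to `p`.
-/

set_option autoImplicit false
set_option linter.unusedSectionVars false

namespace Cfsg.Agent.H507.GmnMono

open Matrix

section Mono

variable {ι F : Type*} [Fintype ι] [DecidableEq ι] [Field F]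

/-- the monomial matrix: column `j` has the entry `d j` in row `π j` -/
def M (π : Equiv.Perm ι) (d : ι → F) : Matrix ι ι F := Matrix.of fun i j => if i = π j then d j else 0

theorem M_apply (π : Equiv.Perm ι) (d : ι → F) (i j : ι) : M π d i j = if i = π j then d j else 0 := rfl

theorem M_mul (π τ : Equiv.Perm ι) (d e : ι → F) : M π d * M τ e = M (π * τ) (fun j => d (τ j) * e j) := by
  ext i j
  rw [Matrix.mul_apply, Finset.sum_eq_single (τ j)]
  · rw [M_apply, M_apply, M_apply, if_pos rfl, Equiv.Perm.mul_apply]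
    split_ifs <;> simp
  · intro k _ hk
    rw [M_apply τ, if_neg hk, mul_zero]
  · intro h
    exact absurd (Finset.mem_univ _) h

theorem M_one : M (1 : Equiv.Perm ι) (fun _ => (1 : F)) = 1 := by
  ext i j
  rw [M_apply, Matrix.one_apply]
  rfl

theorem M_diag (d : ι → F) : M (1 : Equiv.Perm ι) d = Matrix.diagonal d := by
  ext i j
  rw [M_apply, Matrix.diagonal_apply, Equiv.Perm.one_apply]
  by_cases h : i = j
  · subst h; simp
  · simp [h]

theorem det_M (π : Equiv.Perm ι) (d : ι → F) : (M π d).det = (Equiv.Perm.sign π : F) * ∏ i, d i := by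
  have h1 : M π d = (Matrix.diagonal d).submatrix (π⁻¹ : Equiv.Perm ι) id := by
    ext i j
    rw [M_apply, Matrix.submatrix_apply, Matrix.diagonal_apply]
    by_cases h : i = π j
    · subst h
      simp
    · have h2 : ¬ π⁻¹ i = id j := by
        intro h3
        apply h
        rw [← show id j = j from rfl, ← h3]
        exact (π.apply_symm_apply i).symm
      rw [if_neg h, if_neg h2]
  rw [h1, Matrix.det_permute, Matrix.det_diagonal, Equiv.Perm.sign_inv]

/-- the monomial matrix as an element of `GL` -/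
def mono (π : Equiv.Perm ι) (d : ι → Fˣ) : GL ι F where
  val := M π (fun j => (d j : F))
  inv := M π⁻¹ (fun j => ((d (π⁻¹ j))⁻¹ : Fˣ))
  val_inv := by
    rw [M_mul, mul_inv_cancel, ← M_one]
    congr 1
    funext j
    rw [Units.mul_inv]
  inv_val := by
    rw [M_mul, inv_mul_cancel, ← M_one]
    congr 1
    funext j
    have h1 : π⁻¹ (π j) = j := π.symm_apply_apply j
    rw [h1, Units.inv_mul]

theorem coe_mono (π : Equiv.Perm ι) (d : ι → Fˣ) :
    ((mono π d : GL ι F) : Matrix ι ι F) = M π (fun j => (d j : F)) := rfl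

theorem mono_mul (π τ : Equiv.Perm ι) (d e : ι → Fˣ) :
    mono π d * mono τ e = mono (π * τ) (fun j => d (τ j) * e j) := by
  apply Units.ext
  rw [Units.val_mul, coe_mono, coe_mono, coe_mono, M_mul]
  rfl

theorem mono_one : mono (1 : Equiv.Perm ι) (fun _ => (1 : Fˣ)) = 1 := by
  apply Units.ext
  rw [coe_mono, Units.val_one]
  exact M_one

theorem mono_inv (π : Equiv.Perm ι) (d : ι → Fˣ) : (mono π d)⁻¹ = mono π⁻¹ (fun j => (d (π⁻¹ j))⁻¹) := by
  rw [inv_eq_iff_mul_eq_one, mono_mul, mul_inv_cancel, ← mono_one]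
  congr 1
  funext j
  exact mul_inv_cancel _

theorem mono_injective {π τ : Equiv.Perm ι} {d e : ι → Fˣ} (h : mono π d = mono τ e) : π = τ ∧ d = e := by
  have h1 : ∀ i j, M π (fun j => (d j : F)) i j = M τ (fun j => (e j : F)) i j := by
    intro i j
    rw [← coe_mono, ← coe_mono, h]
  have h2 : π = τ := by
    apply Equiv.ext
    intro j
    by_contra hne
    have h3 := h1 (π j) j
    rw [M_apply, M_apply, if_pos rfl, if_neg hne] at h3
    exact (d j).ne_zero h3
  refine ⟨h2, ?_⟩
  subst h2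
  funext j
  have h3 := h1 (π j) j
  rw [M_apply, M_apply, if_pos rfl, if_pos rfl] at h3
  exact Units.ext h3

/-- the group of monomial matrices -/
def Mon (ι F : Type*) [Fintype ι] [DecidableEq ι] [Field F] : Subgroup (GL ι F) where
  carrier := {g | ∃ π d, g = mono π d}
  one_mem' := ⟨1, _, mono_one.symm⟩
  mul_mem' := by
    rintro _ _ ⟨π, d, rfl⟩ ⟨τ, e, rfl⟩
    exact ⟨_, _, mono_mul _ _ _ _⟩
  inv_mem' := by
    rintro _ ⟨π, d, rfl⟩
    exact ⟨_, _, mono_inv _ _⟩

theorem mem_Mon {g : GL ι F} : g ∈ Mon ι F ↔ ∃ π d, g = mono π d := Iff.rfl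

/-- the parametrisation of the monomial matrices -/
noncomputable def monEquiv (ι F : Type*) [Fintype ι] [DecidableEq ι] [Field F] :
    Equiv.Perm ι × (ι → Fˣ) ≃ ↥(Mon ι F) :=
  Equiv.ofBijective (fun x => ⟨mono x.1 x.2, x.1, x.2, rfl⟩) ⟨by
    rintro ⟨π, d⟩ ⟨τ, e⟩ h
    obtain ⟨h1, h2⟩ := mono_injective (congrArg Subtype.val h)
    rw [Prod.mk.injEq]
    exact ⟨h1, h2⟩, by
    rintro ⟨_, π, d, rfl⟩
    exact ⟨(π, d), rfl⟩⟩

theorem card_Mon [Fintype F] : Nat.card ↥(Mon ι F) = (Fintype.card ι).factorial * (Fintype.card F - 1) ^ Fintype.card ι := by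
  classical
  rw [← Nat.card_congr (monEquiv ι F), Nat.card_prod, Nat.card_eq_fintype_card, Fintype.card_perm,
    Nat.card_eq_fintype_card, Fintype.card_fun, Fintype.card_units]

/-- the permutation of a monomial matrix -/
noncomputable def per (g : ↥(Mon ι F)) : Equiv.Perm ι := g.2.choose

theorem per_spec (g : ↥(Mon ι F)) : ∃ d : ι → Fˣ, (g : GL ι F) = mono (per g) d := g.2.choose_spec

theorem per_eq {g : ↥(Mon ι F)} {π : Equiv.Perm ι} {d : ι → Fˣ} (h : (g : GL ι F) = mono π d) : per g = π := by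
  obtain ⟨e, he⟩ := per_spec g
  rw [h] at he
  exact (mono_injective he).1.symm

/-- the permutation of a monomial matrix -/
noncomputable def permHom (ι F : Type*) [Fintype ι] [DecidableEq ι] [Field F] : ↥(Mon ι F) →* Equiv.Perm ι where
  toFun := per
  map_one' := per_eq mono_one.symm
  map_mul' x y := by
    obtain ⟨d, hd⟩ := per_spec x
    obtain ⟨e, he⟩ := per_spec y
    have h1 : ((x * y : ↥(Mon ι F)) : GL ι F) = mono (per x * per y) (fun j => d (per y j) * e j) := by
      rw [← mono_mul, ← hd, ← he, Subgroup.coe_mul]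
    exact per_eq h1

theorem permHom_mono (π : Equiv.Perm ι) (d : ι → Fˣ) (h : mono π d ∈ Mon ι F) :
    permHom ι F ⟨mono π d, h⟩ = π := per_eq rfl

end Mono

section Index

variable {F : Type*} [Field F] [Fintype F] {n p : ℕ} [hp : Fact p.Prime]

theorem padic_prod {α : Type*} (s : Finset α) (f : α → ℕ) (hf : ∀ i ∈ s, f i ≠ 0) :
    padicValNat p (∏ i ∈ s, f i) = ∑ i ∈ s, padicValNat p (f i) := by
  classical
  induction s using Finset.induction_on with
  | empty => simp
  | insert a s ha ih =>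
    rw [Finset.prod_insert ha, Finset.sum_insert ha, padicValNat.mul (hf a (Finset.mem_insert_self _ _))
      (Finset.prod_ne_zero_iff.2 fun i hi => hf i (Finset.mem_insert_of_mem hi)),
      ih fun i hi => hf i (Finset.mem_insert_of_mem hi)]

/-- The `p`-part of `∏ (q^n - q^i)` for `p` odd dividing `q - 1`. -/
theorem padic_card {q : ℕ} (hp2 : p ≠ 2) (hq : 1 < q) (hpq : p ∣ q - 1) (n : ℕ) :
    padicValNat p (∏ i : Fin n, (q ^ n - q ^ (i : ℕ))) = padicValNat p (n.factorial * (q - 1) ^ n) := by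
  have hodd : Odd p := hp.out.odd_of_ne_two hp2
  have hnd : ¬ p ∣ q := by
    intro h
    have h1 : p ∣ 1 := by
      have h2 := (Nat.dvd_sub h hpq)
      rwa [Nat.sub_sub_self hq.le] at h2
    exact hp.out.one_lt.ne' (Nat.dvd_one.1 h1)
  have h1 : ∀ i : Fin n, q ^ n - q ^ (i : ℕ) ≠ 0 := by
    intro i
    exact Nat.sub_ne_zero_of_lt (Nat.pow_lt_pow_right hq i.2)
  rw [padic_prod _ _ (fun i _ => h1 i)]
  have h2 : ∀ i : Fin n, padicValNat p (q ^ n - q ^ (i : ℕ)) = padicValNat p (q - 1) + padicValNat p (n - i) := by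
    intro i
    have h3 : q ^ n - q ^ (i : ℕ) = q ^ (i : ℕ) * (q ^ (n - i) - 1 ^ (n - i)) := by
      rw [one_pow, Nat.mul_sub, mul_one, ← pow_add, Nat.add_sub_cancel' i.2.le]
    have h4 : q ^ (n - (i : ℕ)) - 1 ^ (n - (i : ℕ)) ≠ 0 := by
      rw [one_pow]
      exact Nat.sub_ne_zero_of_lt (Nat.one_lt_pow (Nat.sub_ne_zero_of_lt i.2) hq)
    rw [h3, padicValNat.mul (pow_ne_zero _ (by omega)) h4, padicValNat.eq_zero_of_not_dvd, zero_add,
      padicValNat.pow_sub_pow hodd hq hpq hnd (Nat.sub_ne_zero_of_lt i.2)]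
    intro h5
    exact hnd (hp.out.dvd_of_dvd_pow h5)
  rw [Finset.sum_congr rfl fun i _ => h2 i, Finset.sum_add_distrib, Finset.sum_const, Finset.card_univ,
    Fintype.card_fin, padicValNat.mul (Nat.factorial_ne_zero n) (pow_ne_zero _ (by omega)),
    padicValNat.pow, smul_eq_mul, add_comm]
  congr 1
  rw [← padic_prod _ _ (fun i _ => Nat.sub_ne_zero_of_lt i.2)]
  congr 1
  rw [← Finset.prod_range (fun i => n - i)]
  have h6 := Finset.prod_range_reflect (fun i => i + 1) n
  rw [Finset.prod_range_add_one_eq_factorial] at h6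
  rw [← h6]
  refine Finset.prod_congr rfl fun i hi => ?_
  have := Finset.mem_range.1 hi
  omega

/-- **The index of the monomial group is prime to `p`.** -/
theorem not_dvd_index (hp2 : p ≠ 2) (hpq : p ∣ Fintype.card F - 1) : ¬ p ∣ (Mon (Fin n) F).index := by
  have hq : 1 < Fintype.card F := Fintype.one_lt_card
  have h1 := (Mon (Fin n) F).card_mul_index
  rw [card_Mon, Matrix.card_GL_field, Fintype.card_fin] at h1
  have h2 := padic_card (p := p) hp2 hq hpq n
  rw [← h1, padicValNat.mul (mul_ne_zero (Nat.factorial_ne_zero n) (pow_ne_zero _ (by omega)))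
    (Subgroup.index_ne_zero_of_finite)] at h2
  intro h3
  have h4 : 1 ≤ padicValNat p (Mon (Fin n) F).index := one_le_padicValNat_of_dvd Subgroup.index_ne_zero_of_finite h3
  omega

end Index

end Cfsg.Agent.H507.GmnMono
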