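import Cfsg.Agent.H175.OmegaAdjust
import Cfsg.Agent.ClassicalGeometry.OrthDickson
import Cfsg.Agent.ClassicalGeometry.OmegaIndex

/-!
# Real elements of odd prime order in `Ω`

`g` an isometry of order dividing `p`, `p` an odd prime dividing `q² - 1`.

* `exists_eigen` : a nonzero nondegenerate invariant subspace contains a nonsingular eigenvector of `g + g⁻¹`;
* `exists_inv` : `g` is inverted by a product of reflections of prescribed spinor sign;
* `real_omega` : `g` is inverted by an element of `Ω`, if `g` has a nonzero fixed vector or the dimension is not `2`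
  modulo `4`.
-/

set_option autoImplicit false
set_option linter.unusedSectionVars false

namespace Cfsg.Agent.H507.GmnOrth

open QuadraticMap Matrix Module Polynomial
open Cfsg.Agent.ClassicalGeometry.Reflection Cfsg.Agent.ClassicalGeometry.OrthCharTwo
  Cfsg.Agent.ClassicalGeometry.SpinorSign Cfsg.Agent.ClassicalGeometry.OmegaIndex
  Cfsg.Agent.ClassicalGeometry.OrthDickson

variable {ι : Type} [Fintype ι] [DecidableEq ι] {F : Type*} [Field F]

section Poly

/-- the interpolation identity -/
theorem sum_interp [Fintype F] :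
    ∑ t : F, ((1 : F[X]) - (X - C t) ^ (Fintype.card F - 1)) = 1 := by
  classical
  have hq : 1 < Fintype.card F := Fintype.one_lt_card
  rw [← sub_eq_zero]
  apply Polynomial.eq_zero_of_natDegree_lt_card_of_eval_eq_zero' _ Finset.univ
  · intro s _
    rw [eval_sub, eval_finsetSum, Finset.sum_eq_single s]
    · rw [eval_sub, eval_pow, eval_sub, eval_X, eval_C, sub_self, zero_pow (by omega), eval_one]
      ring
    · intro t _ ht
      rw [eval_sub, eval_pow, eval_sub, eval_X, eval_C, eval_one,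
        FiniteField.pow_card_sub_one_eq_one _ (sub_ne_zero.2 ht.symm), sub_self]
    · intro h
      exact absurd (Finset.mem_univ s) h
  · rw [Finset.card_univ]
    refine lt_of_le_of_lt (b := Fintype.card F - 1) ?_ (by omega)
    refine (natDegree_sub_le _ _).trans (max_le ?_ (by rw [natDegree_one]; exact Nat.zero_le _))
    refine natDegree_sum_le_of_forall_le _ _ fun t _ => ?_
    refine (natDegree_sub_le _ _).trans (max_le (by rw [natDegree_one]; exact Nat.zero_le _) ?_)
    rw [natDegree_pow, natDegree_X_sub_C, mul_one]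

end Poly

section Eig

variable {Q : QuadraticForm F (ι → F)}

/-- the matrix of `g + g⁻¹` -/
def TT (g : Cfsg.isometryGroup F (⇑Q)) : Matrix ι ι F :=
  ((g : Matrix.GeneralLinearGroup ι F) : Matrix ι ι F) + (((g⁻¹ : Cfsg.isometryGroup F (⇑Q)) :
    Matrix.GeneralLinearGroup ι F) : Matrix ι ι F)

theorem TT_mulVec (g : Cfsg.isometryGroup F (⇑Q)) (x : ι → F) : TT g *ᵥ x = act g x + act g⁻¹ x :=
  Matrix.add_mulVec _ _ _

theorem TT_pow [Fintype F] {p : ℕ} (hp : p.Prime) (hq : p ∣ Fintype.card F ^ 2 - 1)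
    {g : Cfsg.isometryGroup F (⇑Q)} (hg : g ^ p = 1) : TT g ^ Fintype.card F = TT g := by
  classical
  rcases isEmpty_or_nonempty ι with he | hne
  · ext i
    exact (he.false i).elim
  obtain ⟨r, hr⟩ := CharP.exists F
  have hrp : Fact r.Prime := ⟨CharP.char_is_prime F r⟩
  obtain ⟨k, -, hk⟩ := FiniteField.card F r
  have hM : CharP (Matrix ι ι F) r := inferInstance
  let G : Matrix ι ι F := ((g : Matrix.GeneralLinearGroup ι F) : Matrix ι ι F)
  let G' : Matrix ι ι F := (((g⁻¹ : Cfsg.isometryGroup F (⇑Q)) : Matrix.GeneralLinearGroup ι F) : Matrix ι ι F)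
  have h1 : G * G' = 1 := by
    change (((g * g⁻¹ : Cfsg.isometryGroup F (⇑Q)) : Matrix.GeneralLinearGroup ι F) : Matrix ι ι F) = 1
    rw [mul_inv_cancel]; rfl
  have h2 : G' * G = 1 := by
    change (((g⁻¹ * g : Cfsg.isometryGroup F (⇑Q)) : Matrix.GeneralLinearGroup ι F) : Matrix ι ι F) = 1
    rw [inv_mul_cancel]; rfl
  have hGp : G ^ p = 1 := by
    change ((g : Matrix.GeneralLinearGroup ι F) : Matrix ι ι F) ^ p = 1
    rw [← Units.val_pow_eq_pow_val, ← SubmonoidClass.coe_pow, hg]; rfl
  have hG'p : G' ^ p = 1 := by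
    change (((g⁻¹ : Cfsg.isometryGroup F (⇑Q)) : Matrix.GeneralLinearGroup ι F) : Matrix ι ι F) ^ p = 1
    rw [← Units.val_pow_eq_pow_val, ← SubmonoidClass.coe_pow, inv_pow, hg, inv_one]; rfl
  have hc : Commute G G' := by rw [commute_iff_eq, h1, h2]
  have hcard : 1 < Fintype.card F := Fintype.one_lt_card
  change (G + G') ^ Fintype.card F = G + G'
  rw [hk, add_pow_expChar_pow_of_commute _ _ hc, ← hk]
  have hd : p ∣ Fintype.card F - 1 ∨ p ∣ Fintype.card F + 1 := by
    have h3 : Fintype.card F ^ 2 - 1 = (Fintype.card F - 1) * (Fintype.card F + 1) := by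
      rw [mul_comm, ← Nat.sq_sub_sq, one_pow]
    rw [h3] at hq
    exact (Nat.Prime.dvd_mul hp).1 hq
  rcases hd with ⟨c, hc⟩ | ⟨c, hc⟩
  · have h3 : Fintype.card F = p * c + 1 := by omega
    rw [h3, pow_succ, pow_succ, pow_mul, pow_mul, hGp, hG'p, one_pow, one_mul, one_mul]
  · have h3 : G ^ Fintype.card F = G' := by
      have h4 : G ^ (Fintype.card F + 1) = 1 := by rw [hc, pow_mul, hGp, one_pow]
      calc G ^ Fintype.card F = G ^ Fintype.card F * (G * G') := by rw [h1, mul_one]
        _ = G ^ (Fintype.card F + 1) * G' := by rw [pow_succ, mul_assoc]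
        _ = G' := by rw [h4, one_mul]
    have h5 : G' ^ Fintype.card F = G := by
      have h4 : G' ^ (Fintype.card F + 1) = 1 := by rw [hc, pow_mul, hG'p, one_pow]
      calc G' ^ Fintype.card F = G' ^ Fintype.card F * (G' * G) := by rw [h2, mul_one]
        _ = G' ^ (Fintype.card F + 1) * G := by rw [pow_succ, mul_assoc]
        _ = G := by rw [h4, one_mul]
    rw [h3, h5, add_comm]

theorem polar_act_left (g : Cfsg.isometryGroup F (⇑Q)) (x y : ι → F) :
    polar Q (act g x) y = polar Q x (act g⁻¹ y) := by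
  conv_lhs => rw [← act_act_inv g y]
  rw [polar_act]

theorem act_inv_mem {p : ℕ} (hp : 0 < p) {g : Cfsg.isometryGroup F (⇑Q)} (hg : g ^ p = 1)
    {U : Submodule F (ι → F)} (hU : ∀ u ∈ U, act g u ∈ U) : ∀ u ∈ U, act g⁻¹ u ∈ U := by
  have h1 : ∀ k : ℕ, ∀ u ∈ U, act (g ^ k) u ∈ U := by
    intro k
    induction k with
    | zero => intro u hu; rw [pow_zero, act_one]; exact hu
    | succ k ih => intro u hu; rw [pow_succ', act_mul]; exact hU _ (ih u hu)
  have h2 : g⁻¹ = g ^ (p - 1) := by
    rw [inv_eq_iff_mul_eq_one, ← pow_succ', Nat.sub_add_cancel hp, hg]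
  rw [h2]
  exact h1 _

/-- **A nonsingular eigenvector of `g + g⁻¹`.** -/
theorem exists_eigen [Fintype F] {p : ℕ} (hp : p.Prime) (hq : p ∣ Fintype.card F ^ 2 - 1)
    {g : Cfsg.isometryGroup F (⇑Q)} (hg : g ^ p = 1) {U : Submodule F (ι → F)} (hU : ∀ u ∈ U, act g u ∈ U)
    (hnd : ∀ x ∈ U, (∀ y ∈ U, polar Q x y = 0) → x = 0) (hne : U ≠ ⊥) :
    ∃ v ∈ U, Q v ≠ 0 ∧ ∃ t : F, act g v + act g⁻¹ v = t • v := by
  classical
  by_contra hcon
  push Not at hcon
  have hU' := act_inv_mem hp.pos hg hU
  have hT : ∀ u ∈ U, TT g *ᵥ u ∈ U := by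
    intro u hu
    rw [TT_mulVec]
    exact U.add_mem (hU u hu) (hU' u hu)
  have hP : ∀ P : F[X], ∀ u ∈ U, (aeval (TT g) P) *ᵥ u ∈ U := by
    intro P
    induction P using Polynomial.induction_on' with
    | add P R hP hR =>
      intro u hu
      rw [map_add, Matrix.add_mulVec]
      exact U.add_mem (hP u hu) (hR u hu)
    | monomial k a =>
      intro u hu
      rw [Polynomial.aeval_monomial, ← Algebra.smul_def, Matrix.smul_mulVec]
      refine U.smul_mem _ ?_
      induction k with
      | zero => rw [pow_zero, Matrix.one_mulVec]; exact hu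
      | succ k ih => rw [pow_succ', ← Matrix.mulVec_mulVec]; exact hT _ ih
  let E : F → F[X] := fun t => 1 - (X - C t) ^ (Fintype.card F - 1)
  have hE : ∀ t u, TT g *ᵥ ((aeval (TT g) (E t)) *ᵥ u) = t • ((aeval (TT g) (E t)) *ᵥ u) := by
    intro t u
    have hq1 : 1 ≤ Fintype.card F := Fintype.card_pos
    have h1 : (X - C t) * E t = X - X ^ Fintype.card F := by
      change (X - C t) * (1 - (X - C t) ^ (Fintype.card F - 1)) = X - X ^ Fintype.card F
      rw [mul_sub, mul_one, ← pow_succ', Nat.sub_add_cancel hq1]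
      obtain ⟨r, hr⟩ := CharP.exists F
      have hrp : Fact r.Prime := ⟨CharP.char_is_prime F r⟩
      obtain ⟨k, -, hk⟩ := FiniteField.card F r
      have h2 : (X - C t : F[X]) ^ Fintype.card F = X ^ Fintype.card F - C t := by
        rw [hk, sub_pow_char_pow, ← hk, ← C_pow, FiniteField.pow_card]
      rw [h2]
      ring
    have h2 : (aeval (TT g) (X - C t)) * (aeval (TT g) (E t)) = 0 := by
      rw [← map_mul, h1, map_sub, map_pow, aeval_X, TT_pow hp hq hg, sub_self]
    rw [map_sub, aeval_X, aeval_C, sub_mul, sub_eq_zero] at h2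
    rw [Matrix.mulVec_mulVec, h2, ← Algebra.smul_def, Matrix.smul_mulVec]
  have hsum : ∀ u, ∑ t, (aeval (TT g) (E t)) *ᵥ u = u := by
    intro u
    have h1 : ∑ t, aeval (TT g) (E t) = 1 := by
      rw [← map_sum, sum_interp, map_one]
    rw [← Matrix.sum_mulVec, h1, Matrix.one_mulVec]
  -- eigenvectors in `U` are singular
  have hsing : ∀ v ∈ U, ∀ t : F, TT g *ᵥ v = t • v → Q v = 0 := by
    intro v hv t ht
    by_contra h
    exact hcon v hv h t (by rw [← TT_mulVec, ht])
  have horth : ∀ v ∈ U, ∀ w ∈ U, ∀ s t : F, TT g *ᵥ v = s • v → TT g *ᵥ w = t • w → polar Q v w = 0 := by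
    intro v hv w hw s t hs ht
    by_cases hst : s = t
    · subst hst
      have h1 := hsing _ (U.add_mem hv hw) s (by rw [Matrix.mulVec_add, hs, ht, smul_add])
      rw [map_add', hsing v hv s hs, hsing w hw s ht] at h1
      simpa using h1
    · have h1 : polar Q (TT g *ᵥ v) w = polar Q v (TT g *ᵥ w) := by
        rw [TT_mulVec, TT_mulVec, polar_add_left, polar_add_right, polar_act_left, polar_act_left, inv_inv, add_comm]
      rw [hs, ht, polar_smul_left, polar_smul_right] at h1
      have h2 : (s - t) * polar Q v w = 0 := by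
        rw [sub_mul, sub_eq_zero]
        exact h1
      exact (mul_eq_zero.1 h2).resolve_left (sub_ne_zero.2 hst)
  apply hne
  rw [Submodule.eq_bot_iff]
  intro x hx
  apply hnd x hx
  intro y hy
  rw [← hsum x, ← hsum y]
  have h1 : ∀ (s : Finset F) (f : F → (ι → F)) (z : ι → F), (∀ t, polar Q (f t) z = 0) →
      polar Q (∑ t ∈ s, f t) z = 0 := by
    intro s f z h
    induction s using Finset.induction_on with
    | empty => rw [Finset.sum_empty, polar_zero_left]
    | insert a s ha ih => rw [Finset.sum_insert ha, polar_add_left, h, ih, add_zero]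
  apply h1
  intro t
  rw [polar_comm]
  apply h1
  intro s
  exact horth _ (hP _ _ hy) _ (hP _ _ hx) s t (hE s _) (hE t _)

end Eig

section Inv

variable {Q : QuadraticForm F (ι → F)}

theorem fix_of_sq {p : ℕ} (hp : p.Prime) (hp2 : p ≠ 2) {g : Cfsg.isometryGroup F (⇑Q)} (hg : g ^ p = 1) {w : ι → F}
    (h : act g (act g w) = w) : act g w = w := by
  obtain ⟨k, hk⟩ := hp.odd_of_ne_two hp2
  have h1 : ∀ j : ℕ, act (g ^ (2 * j)) w = w := by
    intro j
    induction j with
    | zero => rw [mul_zero, pow_zero, act_one]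
    | succ j ih => rw [show 2 * (j + 1) = 2 * j + 1 + 1 by ring, pow_succ, pow_succ, act_mul, act_mul, h, ih]
  have h2 : act (g ^ (2 * k + 1)) w = w := by rw [← hk, hg, act_one]
  rw [pow_succ', act_mul, h1] at h2
  exact h2

/-- a nonsingular eigenvector of `g + g⁻¹`, with eigenvalue different from `± 2` -/
structure Eg (g : Cfsg.isometryGroup F (⇑Q)) (t : F) (v : ι → F) : Prop where
  ns : Q v ≠ 0
  eg : act g v + act g⁻¹ v = t • v
  t1 : t ≠ 2
  t2 : t ≠ -2
  pol : polar Q v (act g v) = t * Q v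

theorem Eg.of {p : ℕ} (hp : p.Prime) (hp2 : p ≠ 2) {g : Cfsg.isometryGroup F (⇑Q)} (hg : g ^ p = 1)
    {U : Submodule F (ι → F)} (hU : ∀ u ∈ U, act g u ∈ U) (hfix : ∀ u ∈ U, act g u = u → u = 0)
    {v : ι → F} (hv : v ∈ U) (hQv : Q v ≠ 0) {t : F} (ht : act g v + act g⁻¹ v = t • v) : Eg g t v := by
  have hv0 : v ≠ 0 := by
    rintro rfl
    exact hQv (QuadraticMap.map_zero _)
  have e2 : act g (act g v) = t • act g v - v := by
    have h1 := congrArg (act g) ht
    rw [act_add, act_act_inv, act_smul] at h1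
    rw [← h1]; abel
  have t1 : t ≠ 2 := by
    intro h
    have h1 : act g (act g v - v) = act g v - v := by
      rw [act_sub, e2, h, two_smul]; abel
    have h2 := hfix _ (U.sub_mem (hU v hv) hv) h1
    exact hv0 (hfix v hv (sub_eq_zero.1 h2))
  have t2 : t ≠ -2 := by
    intro h
    have h1 : act g (act g v + v) = -(act g v + v) := by
      rw [act_add, e2, h, neg_smul, two_smul]; abel
    have h2 : act g (act g (act g v + v)) = act g v + v := by
      have h3 : act g (-(act g v + v)) = -act g (act g v + v) := by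
        rw [← zero_sub, act_sub, act_zero, zero_sub]
      rw [h1, h3, h1, neg_neg]
    have h3 := hfix _ (U.add_mem (hU v hv) hv) (fix_of_sq hp hp2 hg h2)
    have h4 : act g v = -v := eq_neg_of_add_eq_zero_left h3
    have h5 : act g (act g v) = v := by
      rw [h4, ← zero_sub, act_sub, act_zero, zero_sub, h4, neg_neg]
    exact hv0 (hfix v hv (fix_of_sq hp hp2 hg h5))
  refine ⟨hQv, ht, t1, t2, ?_⟩
  have hc : polar Q v (act g⁻¹ v) = polar Q v (act g v) := by
    rw [← polar_act_left, polar_comm]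
  have h1 : 2 * polar Q v (act g v) = 2 * (t * Q v) := by
    have h2 := congrArg (polar Q v) ht
    rw [polar_add_right, hc, polar_smul_right, polar_self', smul_eq_mul] at h2
    linear_combination h2
  have h3 : t * polar Q v (act g v) = t * (t * Q v) := by
    have h4 := congrArg Q ht
    have e3 : act g⁻¹ (act g⁻¹ v) = t • act g⁻¹ v - v := by
      have h1 := congrArg (act g⁻¹) ht
      rw [act_add, act_inv_act, act_smul] at h1
      rw [← h1]; abel
    have hQa : ∀ (k : Cfsg.isometryGroup F (⇑Q)) x, Q (act k x) = Q x := fun k x => Q_act k x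
    rw [map_add', hQa, hQa, polar_act_left, e3, polar_sub_right, polar_smul_right, hc, polar_self',
      QuadraticMap.map_smul, smul_eq_mul, smul_eq_mul] at h4
    linear_combination h4
  by_cases h0 : t = 0
  · have h2 : (2 : F) ≠ 0 := by
      intro h2
      exact t1 (by rw [h0, h2])
    exact mul_left_cancel₀ h2 h1
  · exact mul_left_cancel₀ h0 h3

theorem Eg.sq {g : Cfsg.isometryGroup F (⇑Q)} {t : F} {v : ι → F} (h : Eg g t v) :
    act g (act g v) = t • act g v - v := by
  have h1 := congrArg (act g) h.eg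
  rw [act_add, act_act_inv, act_smul] at h1
  rw [← h1]; abel

theorem act_refl (v : ι → F) (hv : Q v ≠ 0) (x : ι → F) :
    act (reflIso Q v hv) x = x - ((Q v)⁻¹ * polar Q v x) • v := reflectionMatrix_mulVec Q v x

/-- the reflection in `v` inverts `g` on the plane spanned by `v` and `g v` -/
theorem Eg.refl {g : Cfsg.isometryGroup F (⇑Q)} {t : F} {v : ι → F} (h : Eg g t v) (a b : F) :
    act (reflIso Q v h.ns) (act g (a • v + b • act g v)) =
      act g⁻¹ (act (reflIso Q v h.ns) (a • v + b • act g v)) := by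
  have r1 : act (reflIso Q v h.ns) v = -v := reflectionMatrix_mulVec_self Q v h.ns
  have r2 : act (reflIso Q v h.ns) (act g v) = -act g⁻¹ v := by
    rw [act_refl, h.pol, ← mul_assoc, mul_comm (Q v)⁻¹ t, mul_assoc, inv_mul_cancel₀ h.ns, mul_one, ← h.eg]
    abel
  have hneg : ∀ (k : Cfsg.isometryGroup F (⇑Q)) (x : ι → F), act k (-x) = -act k x := by
    intro k x
    rw [← zero_sub, act_sub, act_zero, zero_sub]
  have e3 : act g⁻¹ (act g⁻¹ v) = t • act g⁻¹ v - v := by
    have h1 := congrArg (act g⁻¹) h.eg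
    rw [act_add, act_inv_act, act_smul] at h1
    rw [← h1]; abel
  rw [act_add, act_smul, act_smul, act_add, act_smul, act_smul, h.sq, act_sub, act_smul, r1, r2, act_add,
    act_smul, act_smul, r1, r2, act_add, act_smul, act_smul, hneg, hneg, e3]
  simp only [smul_neg, sub_neg_eq_add, smul_sub, smul_add]
  abel

end Inv

section Split

variable {Q : QuadraticForm F (ι → F)}

/-- the orthogonal complement in `U` of the plane spanned by `v` and `g v` -/
def cmp (g : Cfsg.isometryGroup F (⇑Q)) (v : ι → F) (U : Submodule F (ι → F)) : Submodule F (ι → F) where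
  carrier := {u | u ∈ U ∧ polar Q v u = 0 ∧ polar Q (act g v) u = 0}
  zero_mem' := ⟨U.zero_mem, by rw [polar_zero_right], by rw [polar_zero_right]⟩
  add_mem' := by
    rintro x y ⟨h1, h2, h3⟩ ⟨h4, h5, h6⟩
    exact ⟨U.add_mem h1 h4, by rw [polar_add_right, h2, h5, add_zero], by rw [polar_add_right, h3, h6, add_zero]⟩
  smul_mem' := by
    rintro c x ⟨h1, h2, h3⟩
    exact ⟨U.smul_mem c h1, by rw [polar_smul_right, h2, smul_zero], by rw [polar_smul_right, h3, smul_zero]⟩

theorem mem_cmp {g : Cfsg.isometryGroup F (⇑Q)} {v : ι → F} {U : Submodule F (ι → F)} {u : ι → F} :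
    u ∈ cmp g v U ↔ u ∈ U ∧ polar Q v u = 0 ∧ polar Q (act g v) u = 0 := Iff.rfl

variable {g : Cfsg.isometryGroup F (⇑Q)} {t : F} {v : ι → F} {U : Submodule F (ι → F)}

theorem cmp_le : cmp g v U ≤ U := fun _ h => h.1

theorem Eg.inv_eq (h : Eg g t v) : act g⁻¹ v = t • v - act g v := by
  rw [← h.eg]; abel

theorem Eg.cmp_inv (h : Eg g t v) (hU : ∀ u ∈ U, act g u ∈ U) : ∀ u ∈ cmp g v U, act g u ∈ cmp g v U := by
  rintro u ⟨h1, h2, h3⟩
  refine ⟨hU u h1, ?_, ?_⟩
  · have h4 : polar Q (act g⁻¹ v) u = polar Q v (act g u) := by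
      rw [polar_act_left, inv_inv]
    rw [← h4, h.inv_eq, polar_sub_left, polar_smul_left, h2, h3, smul_zero, sub_zero]
  · rw [polar_act, h2]

theorem Eg.disc (h : Eg g t v) : (4 - t ^ 2) ≠ 0 := by
  intro h0
  have h1 : (2 - t) * (2 + t) = 0 := by linear_combination h0
  rcases mul_eq_zero.1 h1 with h2 | h2
  · exact h.t1 (sub_eq_zero.1 h2).symm
  · exact h.t2 (by linear_combination h2)

/-- projection to the complement -/
theorem Eg.exists_sub (h : Eg g t v) (hU : ∀ u ∈ U, act g u ∈ U) (hv : v ∈ U) {u : ι → F} (hu : u ∈ U) :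
    ∃ a b : F, u - (a • v + b • act g v) ∈ cmp g v U := by
  have hd := h.disc
  have hns := h.ns
  have hp1 : polar Q v v = 2 * Q v := polar_self' Q v
  have hp2 : polar Q (act g v) (act g v) = 2 * Q v := by rw [polar_act]; exact hp1
  have hp3 : polar Q (act g v) v = t * Q v := by rw [polar_comm]; exact h.pol
  let α := polar Q v u
  let β := polar Q (act g v) u
  refine ⟨(2 * α - t * β) / (Q v * (4 - t ^ 2)), (2 * β - t * α) / (Q v * (4 - t ^ 2)), ?_, ?_, ?_⟩
  · exact U.sub_mem hu (U.add_mem (U.smul_mem _ hv) (U.smul_mem _ (hU v hv)))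
  · rw [polar_sub_right, polar_add_right, polar_smul_right, polar_smul_right, hp1, h.pol]
    simp only [smul_eq_mul]
    change α - _ = 0
    field_simp
    ring
  · rw [polar_sub_right, polar_add_right, polar_smul_right, polar_smul_right, hp2, hp3]
    simp only [smul_eq_mul]
    change β - _ = 0
    field_simp
    ring

theorem Eg.cmp_nondeg (h : Eg g t v) (hU : ∀ u ∈ U, act g u ∈ U) (hv : v ∈ U)
    (hnd : ∀ x ∈ U, (∀ y ∈ U, polar Q x y = 0) → x = 0) :
    ∀ x ∈ cmp g v U, (∀ y ∈ cmp g v U, polar Q x y = 0) → x = 0 := by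
  intro x hx hxy
  apply hnd x hx.1
  intro y hy
  obtain ⟨a, b, hab⟩ := h.exists_sub hU hv hy
  have h1 : y = (y - (a • v + b • act g v)) + (a • v + b • act g v) := by abel
  rw [h1, polar_add_right, hxy _ hab, polar_add_right, polar_smul_right, polar_smul_right, polar_comm, hx.2.1,
    polar_comm, hx.2.2, smul_zero, smul_zero, add_zero, add_zero]

theorem Eg.finrank_cmp (h : Eg g t v) (hU : ∀ u ∈ U, act g u ∈ U) (hv : v ∈ U) :
    finrank F U = finrank F (cmp g v U) + 2 := by
  let φ : U →ₗ[F] F × F :=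
    { toFun := fun u => (polar Q v u, polar Q (act g v) u)
      map_add' := fun x y => by
        rw [Submodule.coe_add, polar_add_right, polar_add_right]; rfl
      map_smul' := fun c x => by
        rw [Submodule.coe_smul, polar_smul_right, polar_smul_right]; rfl }
  have hd := h.disc
  have hns := h.ns
  have hp1 : polar Q v v = 2 * Q v := polar_self' Q v
  have hp2 : polar Q (act g v) (act g v) = 2 * Q v := by rw [polar_act]; exact hp1
  have hp3 : polar Q (act g v) v = t * Q v := by rw [polar_comm]; exact h.pol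
  have hsurj : Function.Surjective φ := by
    rintro ⟨α, β⟩
    refine ⟨⟨((2 * α - t * β) / (Q v * (4 - t ^ 2))) • v + ((2 * β - t * α) / (Q v * (4 - t ^ 2))) • act g v,
      U.add_mem (U.smul_mem _ hv) (U.smul_mem _ (hU v hv))⟩, ?_⟩
    change (polar Q v _, polar Q (act g v) _) = (α, β)
    rw [Prod.mk.injEq]
    constructor
    · rw [polar_add_right, polar_smul_right, polar_smul_right, hp1, h.pol]
      simp only [smul_eq_mul]
      field_simp
      ring
    · rw [polar_add_right, polar_smul_right, polar_smul_right, hp2, hp3]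
      simp only [smul_eq_mul]
      field_simp
      ring
  have h1 := LinearMap.finrank_range_add_finrank_ker φ
  rw [LinearMap.range_eq_top.2 hsurj, finrank_top, finrank_prod, finrank_self] at h1
  have h2 : finrank F (LinearMap.ker φ) = finrank F (cmp g v U) := by
    have e : (LinearMap.ker φ).map U.subtype = cmp g v U := by
      ext x
      constructor
      · rintro ⟨y, hy, rfl⟩
        have hy' : φ y = 0 := hy
        have h3 := Prod.mk.inj hy'
        exact ⟨y.2, h3.1, h3.2⟩
      · rintro ⟨h3, h4, h5⟩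
        refine ⟨⟨x, h3⟩, ?_, rfl⟩
        change φ ⟨x, h3⟩ = 0
        exact Prod.ext h4 h5
    rw [← e]
    exact (LinearEquiv.finrank_eq (Submodule.equivMapOfInjective U.subtype U.subtype_injective _))
  rw [← h1, h2]
  ring

/-- an isometry inverting `g` on `U`, trivial on the orthogonal complement of `U` -/
structure IsInv (g : Cfsg.isometryGroup F (⇑Q)) (U : Submodule F (ι → F)) (k : ℕ)
    (h : Cfsg.isometryGroup F (⇑Q)) : Prop where
  det : ((h : Matrix.GeneralLinearGroup ι F) : Matrix ι ι F).det = (-1) ^ k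
  ds : dsign Q h = (-1) ^ k
  mem : ∀ u ∈ U, act h u ∈ U
  inv : ∀ u ∈ U, act h (act g u) = act g⁻¹ (act h u)
  perp : ∀ x, (∀ u ∈ U, polar Q u x = 0) → act h x = x

theorem IsInv.step (hQ : (polarBilin Q).Nondegenerate) (e : Eg g t v) (hU : ∀ u ∈ U, act g u ∈ U) (hv : v ∈ U)
    {p : ℕ} (hp : 0 < p) (hg : g ^ p = 1)
    {k : ℕ} {h : Cfsg.isometryGroup F (⇑Q)} (H : IsInv g (cmp g v U) k h) :
    IsInv g U (k + 1) (reflIso Q v e.ns * h) := by
  have hR : ∀ x, polar Q v x = 0 → act (reflIso Q v e.ns) x = x := by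
    intro x hx
    rw [act_refl, hx, mul_zero, zero_smul, sub_zero]
  have hC := e.cmp_inv hU
  have hC' := act_inv_mem hp hg hC
  have hfix : ∀ a b : F, act h (a • v + b • act g v) = a • v + b • act g v := by
    intro a b
    apply H.perp
    intro u hu
    rw [polar_add_right, polar_smul_right, polar_smul_right, polar_comm, hu.2.1, polar_comm, hu.2.2, smul_zero,
      smul_zero, add_zero]
  have hgfix : ∀ a b : F, act h (act g (a • v + b • act g v)) = act g (a • v + b • act g v) := by
    intro a b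
    have h1 : act g (a • v + b • act g v) = (-b) • v + (a + b * t) • act g v := by
      rw [act_add, act_smul, act_smul, e.sq, smul_sub, smul_smul, neg_smul, add_smul]
      abel
    rw [h1, hfix]
  refine ⟨?_, ?_, ?_, ?_, ?_⟩
  · have h1 : (((reflIso Q v e.ns * h : Cfsg.isometryGroup F (⇑Q)) : Matrix.GeneralLinearGroup ι F) :
        Matrix ι ι F) = ((reflIso Q v e.ns : Matrix.GeneralLinearGroup ι F) : Matrix ι ι F) *
        ((h : Matrix.GeneralLinearGroup ι F) : Matrix ι ι F) := rfl
    rw [h1, Matrix.det_mul, det_reflIso, H.det, pow_succ']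
  · rw [dsign_refl_mul Q hQ, H.ds, pow_succ', neg_one_mul]
  · intro u hu
    obtain ⟨a, b, hab⟩ := e.exists_sub hU hv hu
    have h1 : u = (u - (a • v + b • act g v)) + (a • v + b • act g v) := by abel
    rw [act_mul, h1, act_add, hfix, act_refl]
    exact U.sub_mem (U.add_mem (H.mem _ hab).1 (U.add_mem (U.smul_mem _ hv) (U.smul_mem _ (hU v hv))))
      (U.smul_mem _ hv)
  · intro u hu
    obtain ⟨a, b, hab⟩ := e.exists_sub hU hv hu
    obtain ⟨y, hy⟩ : ∃ y, y = u - (a • v + b • act g v) := ⟨_, rfl⟩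
    rw [← hy] at hab
    have h2 := H.mem y hab
    have h3 := hC' _ h2
    have z1 := hfix a b
    have z2 := hgfix a b
    have z3 := e.refl a b
    obtain ⟨z, hz⟩ : ∃ z, z = a • v + b • act g v := ⟨_, rfl⟩
    rw [← hz] at hy z1 z2 z3
    have h1 : u = y + z := by rw [hy]; abel
    rw [act_mul, act_mul, h1, act_add, act_add, act_add, act_add, act_add, act_add, z2, z1, H.inv y hab, z3,
      hR _ h2.2.1, hR _ h3.2.1]
  · intro x hx
    rw [act_mul, H.perp x (fun u hu => hx u hu.1), hR x (hx v hv)]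

/-- **`g` is inverted by a product of reflections.** -/
theorem exists_inv [Fintype F] {p : ℕ} (hp : p.Prime) (hp2 : p ≠ 2) (hq : p ∣ Fintype.card F ^ 2 - 1)
    (hQ : (polarBilin Q).Nondegenerate) (hg : g ^ p = 1) (n : ℕ) :
    ∀ U : Submodule F (ι → F), finrank F U = n → n ≠ 0 → (∀ u ∈ U, act g u ∈ U) →
      (∀ x ∈ U, (∀ y ∈ U, polar Q x y = 0) → x = 0) → (∀ u ∈ U, act g u = u → u = 0) → ∀ ε : ℤˣ,
      ∃ (k : ℕ) (h : Cfsg.isometryGroup F (⇑Q)), n = 2 * k ∧ IsInv g U k h ∧
        ((2 : F) ≠ 0 → spinorSign (⇑Q) (1 : F) h = ε) := by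
  classical
  induction n using Nat.strong_induction_on with
  | _ n ih =>
  intro U hn hn0 hU hnd hfix ε
  have hUne : U ≠ ⊥ := by
    rintro rfl
    rw [finrank_bot] at hn
    exact hn0 hn.symm
  obtain ⟨v, hv, hQv, t, ht⟩ := exists_eigen hp hq hg hU hnd hUne
  have e := Eg.of hp hp2 hg hU hfix hv hQv ht
  have hdim := e.finrank_cmp hU hv
  by_cases h0 : finrank F (cmp g v U) = 0
  · -- a plane
    have hbot : cmp g v U = ⊥ := Submodule.finrank_eq_zero.1 h0
    have hspan : ∀ u ∈ U, ∃ a b : F, u = a • v + b • act g v := by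
      intro u hu
      obtain ⟨a, b, hab⟩ := e.exists_sub hU hv hu
      rw [hbot, Submodule.mem_bot] at hab
      exact ⟨a, b, sub_eq_zero.1 hab⟩
    obtain ⟨w, hw, hQw, hwε⟩ : ∃ w ∈ U, ∃ hQw : Q w ≠ 0, (2 : F) ≠ 0 →
        spinorSign (⇑Q) (1 : F) (reflIso Q w hQw) = ε := by
      by_cases h2 : (2 : F) = 0
      · exact ⟨v, hv, hQv, fun h => absurd h2 h⟩
      · obtain ⟨c, hc0, hc⟩ : ∃ c : F, c ≠ 0 ∧ (if IsSquare c then (-1 : ℤˣ) else 1) = ε := by
          rcases Int.units_eq_one_or ε with rfl | rfl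
          · obtain ⟨c, hc⟩ := FiniteField.exists_nonsquare (F := F) (by
              intro h
              apply h2
              have := CharP.cast_eq_zero F (ringChar F)
              rw [h] at this
              exact_mod_cast this)
            refine ⟨c, ?_, by rw [if_neg hc]⟩
            rintro rfl
            exact hc (IsSquare.zero)
          · exact ⟨1, one_ne_zero, by rw [if_pos IsSquare.one]⟩
        obtain ⟨w, hw, hQw⟩ := Cfsg.Agent.H175.OmegaAdjust.exists_value h2 Q U (by rw [hdim]; omega) hnd c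
        have hQw0 : Q w ≠ 0 := by rw [hQw]; exact hc0
        refine ⟨w, hw, hQw0, fun _ => ?_⟩
        rw [spinorSign_reflIso h2 Q one_ne_zero w hQw0, one_mul, hQw]
        exact hc
    have htw : act g w + act g⁻¹ w = t • w := by
      obtain ⟨a, b, rfl⟩ := hspan w hw
      rw [act_add, act_add, act_smul, act_smul, act_smul, act_smul, e.sq, act_inv_act, e.inv_eq]
      simp only [smul_sub, smul_add, smul_smul]
      rw [mul_comm t a, mul_comm t b]
      abel
    have e' := Eg.of hp hp2 hg hU hfix hw hQw htw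
    have hdim' := e'.finrank_cmp hU hw
    have h0' : finrank F (cmp g w U) = 0 := by omega
    have hbot' : cmp g w U = ⊥ := Submodule.finrank_eq_zero.1 h0'
    have H : IsInv g (cmp g w U) 0 (1 : Cfsg.isometryGroup F (⇑Q)) := by
      refine ⟨?_, ?_, ?_, ?_, ?_⟩
      · rw [pow_zero]
        change (1 : Matrix ι ι F).det = 1
        exact Matrix.det_one
      · rw [dsign_one, pow_zero]
      · intro u hu; rw [act_one]; exact hu
      · intro u hu
        rw [hbot', Submodule.mem_bot] at hu
        rw [hu, act_zero, act_one, act_zero]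
      · intro x _; rw [act_one]
    refine ⟨1, _, by omega, H.step hQ e' hU hw hp.pos hg, fun h2 => ?_⟩
    rw [mul_one]
    exact hwε h2
  · obtain ⟨k, h, hk, H, hs⟩ := ih (finrank F (cmp g v U)) (by omega) (cmp g v U) rfl h0 (e.cmp_inv hU)
      (e.cmp_nondeg hU hv hnd) (fun u hu => hfix u hu.1) (spinorSign (⇑Q) (1 : F) (reflIso Q v e.ns) * ε)
    refine ⟨k + 1, _, by omega, H.step hQ e hU hv hp.pos hg, fun h2 => ?_⟩
    rw [map_mul, hs h2, ← mul_assoc, Int.units_mul_self, one_mul]

end Split

section Main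

variable {Q : QuadraticForm F (ι → F)}

theorem act_pow_fix {g : Cfsg.isometryGroup F (⇑Q)} {y : ι → F} (hy : act g y = y) (k : ℕ) : act (g ^ k) y = y := by
  induction k with
  | zero => rw [pow_zero, act_one]
  | succ k ih => rw [pow_succ', act_mul, ih, hy]

/-- decomposition of a vector: a fixed vector and a vector orthogonal to the fixed vectors -/
theorem exists_decomp {p : ℕ} (hpF : (p : F) ≠ 0) {g : Cfsg.isometryGroup F (⇑Q)} (hg : g ^ p = 1) (x : ι → F) :
    ∃ a b : ι → F, x = a + b ∧ act g a = a ∧ ∀ y, act g y = y → polar Q y b = 0 := by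
  let N : ι → F := ∑ k ∈ Finset.range p, act (g ^ k) x
  have hsum : ∀ (s : Finset ℕ) (f : ℕ → ι → F), act g (∑ k ∈ s, f k) = ∑ k ∈ s, act g (f k) := by
    intro s f
    induction s using Finset.induction_on with
    | empty => rw [Finset.sum_empty, Finset.sum_empty, act_zero]
    | insert a s ha ih => rw [Finset.sum_insert ha, Finset.sum_insert ha, act_add, ih]
  have hN : act g N = N := by
    have h1 : act g N = ∑ k ∈ Finset.range p, act (g ^ (k + 1)) x := by
      change act g (∑ k ∈ Finset.range p, act (g ^ k) x) = _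
      rw [hsum]
      refine Finset.sum_congr rfl fun k _ => ?_
      rw [pow_succ', act_mul]
    have h2 := Finset.sum_range_succ (fun k => act (g ^ k) x) p
    have h3 := Finset.sum_range_succ' (fun k => act (g ^ k) x) p
    rw [h2, hg, pow_zero] at h3
    rw [h1]
    exact (add_right_cancel h3).symm
  have hpol : ∀ y, act g y = y → polar Q y N = p * polar Q y x := by
    intro y hy
    have h1 : ∀ s : Finset ℕ, polar Q y (∑ k ∈ s, act (g ^ k) x) = s.card * polar Q y x := by
      intro s
      induction s using Finset.induction_on with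
      | empty => rw [Finset.sum_empty, polar_zero_right, Finset.card_empty, Nat.cast_zero, zero_mul]
      | insert a s ha ih =>
        have h2 : polar Q y (act (g ^ a) x) = polar Q y x := by
          conv_lhs => rw [← act_pow_fix hy a]
          rw [polar_act]
        rw [Finset.sum_insert ha, polar_add_right, ih, h2, Finset.card_insert_of_notMem ha]
        push_cast
        ring
    have h2 := h1 (Finset.range p)
    rw [Finset.card_range] at h2
    exact h2
  refine ⟨(p : F)⁻¹ • N, x - (p : F)⁻¹ • N, by abel, by rw [act_smul, hN], fun y hy => ?_⟩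
  rw [polar_sub_right, polar_smul_right, hpol y hy, smul_eq_mul, ← mul_assoc, inv_mul_cancel₀ hpF, one_mul, sub_self]

/-- the vectors orthogonal to the fixed vectors -/
def mov (g : Cfsg.isometryGroup F (⇑Q)) : Submodule F (ι → F) where
  carrier := {u | ∀ y, act g y = y → polar Q y u = 0}
  zero_mem' := fun y _ => by rw [polar_zero_right]
  add_mem' := fun h1 h2 y hy => by rw [polar_add_right, h1 y hy, h2 y hy, add_zero]
  smul_mem' := fun c x h1 y hy => by rw [polar_smul_right, h1 y hy, smul_zero]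

theorem mem_mov {g : Cfsg.isometryGroup F (⇑Q)} {u : ι → F} :
    u ∈ mov g ↔ ∀ y, act g y = y → polar Q y u = 0 := Iff.rfl

/-- **Real elements of `Ω`.** -/
theorem real_omega [Fintype F] {p : ℕ} (hp : p.Prime) (hp2 : p ≠ 2) (hpF : (p : F) ≠ 0)
    (hq : p ∣ Fintype.card F ^ 2 - 1) (hQ : (polarBilin Q).Nondegenerate) (hn : 2 ≤ Fintype.card ι)
    (h4 : (∃ θ : F, θ ≠ 0 ∧ θ ≠ 1) ∨ Fintype.card ι ≠ 4) {g : Cfsg.isometryGroup F (⇑Q)} (hg : g ^ p = 1)
    (hfd : (∃ x : ι → F, x ≠ 0 ∧ act g x = x) ∨ Fintype.card ι % 4 ≠ 2) :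
    ∃ h ∈ Cfsg.Omega F (⇑Q), h * g * h⁻¹ = g⁻¹ := by
  classical
  by_cases hg1 : g = 1
  · exact ⟨1, Subgroup.one_mem _, by rw [hg1]; simp⟩
  have hU : ∀ u ∈ mov g, act g u ∈ mov g := by
    intro u hu y hy
    have h1 : polar Q (act g y) (act g u) = polar Q y u := polar_act g y u
    rw [hy] at h1
    rw [h1]
    exact hu y hy
  have hfix : ∀ u ∈ mov g, act g u = u → u = 0 := by
    intro u hu hgu
    apply nondeg_left Q hQ
    intro y
    obtain ⟨a, b, rfl, ha, hb⟩ := exists_decomp hpF hg y
    rw [polar_add_right, hb u hgu, polar_comm, hu a ha, add_zero]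
  have hnd : ∀ x ∈ mov g, (∀ y ∈ mov g, polar Q x y = 0) → x = 0 := by
    intro x hx hxy
    apply nondeg_left Q hQ
    intro y
    obtain ⟨a, b, rfl, ha, hb⟩ := exists_decomp hpF hg y
    rw [polar_add_right, hxy b hb, polar_comm, hx a ha, add_zero]
  have hne : mov g ≠ ⊥ := by
    intro h
    apply hg1
    apply act_ext
    intro x
    obtain ⟨a, b, rfl, ha, hb⟩ := exists_decomp hpF hg x
    have h1 : b ∈ mov g := hb
    rw [h, Submodule.mem_bot] at h1
    rw [h1, add_zero, ha, act_one]
  have hn0 : finrank F (mov g) ≠ 0 := fun h => hne (Submodule.finrank_eq_zero.1 h)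
  -- from `IsInv` to a conjugation
  have hconj : ∀ (k : ℕ) (h : Cfsg.isometryGroup F (⇑Q)), IsInv g (mov g) k h → h * g * h⁻¹ = g⁻¹ := by
    intro k h H
    rw [mul_inv_eq_iff_eq_mul]
    apply act_ext
    intro x
    obtain ⟨a, b, rfl, ha, hb⟩ := exists_decomp hpF hg x
    have h1 : act h a = a := by
      apply H.perp
      intro u hu
      rw [polar_comm]
      exact hu a ha
    have h2 : act g⁻¹ a = a := by
      conv_lhs => rw [← ha]
      rw [act_inv_act]
    rw [act_mul, act_mul, act_add, act_add, act_add, act_add, ha, h1, h2, H.inv b hb]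
  have hmem : ∀ h : Cfsg.isometryGroup F (⇑Q), ((h : Matrix.GeneralLinearGroup ι F) : Matrix ι ι F).det = 1 →
      dsign Q h = 1 → ((2 : F) ≠ 0 → spinorSign (⇑Q) (1 : F) h = 1) → h ∈ Cfsg.Omega F (⇑Q) := by
    intro h h1 h2 h3
    by_cases h0 : (2 : F) = 0
    · rw [Cfsg.Agent.H183.mem_Omega_iff_dsign _ h0 hQ h4]
      exact h2
    · rw [mem_Omega_iff h0 Q hQ hn one_ne_zero]
      exact ⟨h1, h3 h0⟩
  obtain ⟨k, h, hk, H, hs⟩ := exists_inv hp hp2 hq hQ hg _ (mov g) rfl hn0 hU hnd hfix 1
  rcases Nat.even_or_odd k with hev | hodd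
  · exact ⟨h, hmem h (by rw [H.det, hev.neg_one_pow]) (by rw [H.ds, hev.neg_one_pow]) hs, hconj k h H⟩
  by_cases hfx : ∃ x : ι → F, x ≠ 0 ∧ act g x = x
  · -- a nonsingular fixed vector
    obtain ⟨w, hw, hQw⟩ : ∃ w, act g w = w ∧ Q w ≠ 0 := by
      obtain ⟨w, hw, hQw⟩ := Cfsg.Agent.H175.OmegaAdjust.exists_nonsing Q (fixSp g) (by
        obtain ⟨x, hx0, hx⟩ := hfx
        intro h
        have h1 : x ∈ fixSp g := hx
        rw [h, Submodule.mem_bot] at h1
        exact hx0 h1) (by
        intro x hx hxy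
        apply nondeg_left Q hQ
        intro y
        obtain ⟨a, b, rfl, ha, hb⟩ := exists_decomp hpF hg y
        rw [polar_add_right, hxy a ha, hb x hx, add_zero])
      exact ⟨w, hw, hQw⟩
    have hcomm : g * reflIso Q w hQw = reflIso Q w hQw * g := by
      have h1 := conj_reflIso Q w hQw g (by
        have : act g w = w := hw
        rw [act_def] at this
        rw [this]; exact hQw)
      rw [mul_inv_eq_iff_eq_mul] at h1
      rw [h1]
      congr 1
      exact reflIso_congr Q _ _ hw
    obtain ⟨k', h', hk', H', hs'⟩ := exists_inv hp hp2 hq hQ hg _ (mov g) rfl hn0 hU hnd hfix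
      (spinorSign (⇑Q) (1 : F) (reflIso Q w hQw))
    have hkk : k' = k := by omega
    subst hkk
    refine ⟨reflIso Q w hQw * h', hmem _ ?_ ?_ ?_, ?_⟩
    · have h1 : (((reflIso Q w hQw * h' : Cfsg.isometryGroup F (⇑Q)) : Matrix.GeneralLinearGroup ι F) :
          Matrix ι ι F) = ((reflIso Q w hQw : Matrix.GeneralLinearGroup ι F) : Matrix ι ι F) *
          ((h' : Matrix.GeneralLinearGroup ι F) : Matrix ι ι F) := rfl
      rw [h1, Matrix.det_mul, det_reflIso, H'.det, hodd.neg_one_pow]
      ring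
    · rw [dsign_refl_mul Q hQ, H'.ds, hodd.neg_one_pow]
      decide
    · intro h0
      rw [map_mul, hs' h0, Int.units_mul_self]
    · have h1 := hconj _ h' H'
      have h2 : reflIso Q w hQw * g⁻¹ = g⁻¹ * reflIso Q w hQw := by
        rw [eq_inv_mul_iff_mul_eq, ← mul_assoc, hcomm, mul_assoc, mul_inv_cancel, mul_one]
      calc reflIso Q w hQw * h' * g * (reflIso Q w hQw * h')⁻¹
          = reflIso Q w hQw * (h' * g * h'⁻¹) * (reflIso Q w hQw)⁻¹ := by group
        _ = g⁻¹ := by rw [h1, h2, mul_inv_cancel_right]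
  · exfalso
    have h4' : Fintype.card ι % 4 ≠ 2 := hfd.resolve_left hfx
    have htop : mov g = ⊤ := by
      rw [eq_top_iff]
      intro x _ y hy
      have hy0 : y = 0 := by
        by_contra h0
        exact hfx ⟨y, h0, hy⟩
      rw [hy0, polar_zero_left]
    rw [htop, finrank_top, finrank_fintype_fun_eq_card] at hk
    obtain ⟨m, hm⟩ := hodd
    omega

end Main

end Cfsg.Agent.H507.GmnOrth
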