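import Cfsg.Agent.H507.GmnCover
import Cfsg.Agent.H507.GmnMono
import Cfsg.Agent.BpLin.PSL

/-!
# `p`-groups of automorphisms of `PSL_n(q)` containing a Sylow `p`-subgroup, `p` odd dividing `q - 1`

`frames` : for `p` an odd prime dividing `q - 1`, `n ≥ 2`, every `p`-subgroup `A` of the automorphism group of
`PSL_n(q)` containing a Sylow `p`-subgroup `Q` of `PSL_n(q)` is normalised by a `p'`-element of `PSL_n(q)` that does not
centralise `Q`.
-/

set_option autoImplicit false
set_option linter.unusedSectionVars false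

namespace Cfsg.Agent.H507.GmnPSL

open Matrix Cfsg.Agent.H507.Gmn Cfsg.Agent.H507.GmnMono
open Cfsg.Agent.ClassicalGeometry.AutPSL.Root Cfsg.Agent.ClassicalGeometry.AutPSL.Auto
  Cfsg.Agent.ClassicalGeometry.AutPSL.Main Cfsg.Agent.Schreier.ClassPSL

section Gam

variable {ι F : Type*} [Fintype ι] [DecidableEq ι] [Field F]

/-- field automorphisms acting on `GL` -/
def mgAut (ι F : Type*) [Fintype ι] [DecidableEq ι] [Field F] : (F ≃+* F) →* MulAut (GL ι F) where
  toFun σ :=
    { toFun := Matrix.GeneralLinearGroup.map (σ : F →+* F)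
      invFun := Matrix.GeneralLinearGroup.map (σ.symm : F →+* F)
      left_inv := fun g => by
        apply Units.ext
        ext i j
        change σ.symm (σ ((g : Matrix ι ι F) i j)) = _
        exact σ.symm_apply_apply _
      right_inv := fun g => by
        apply Units.ext
        ext i j
        change σ (σ.symm ((g : Matrix ι ι F) i j)) = _
        exact σ.apply_symm_apply _
      map_mul' := fun g h => map_mul _ g h }
  map_one' := by
    apply MulEquiv.ext
    intro g
    apply Units.ext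
    ext i j
    rfl
  map_mul' σ τ := by
    apply MulEquiv.ext
    intro g
    apply Units.ext
    ext i j
    rfl

theorem mgAut_apply (σ : F ≃+* F) (g : GL ι F) : mgAut ι F σ g = Matrix.GeneralLinearGroup.map (σ : F →+* F) g := rfl

/-- the semilinear group -/
abbrev GamL (ι F : Type*) [Fintype ι] [DecidableEq ι] [Field F] : Type _ := GL ι F ⋊[mgAut ι F] (F ≃+* F)

/-- the action on `PSL` -/
def Phi (ι F : Type*) [Fintype ι] [DecidableEq ι] [Field F] :
    GamL ι F →* MulAut (Matrix.ProjectiveSpecialLinearGroup ι F) :=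
  SemidirectProduct.lift (lift.comp cj) (lift.comp fld) (by
    intro σ
    apply MonoidHom.ext
    intro g
    change lift (cj (mgAut ι F σ g)) = lift (fld σ) * lift (cj g) * (lift (fld σ))⁻¹
    rw [mgAut_apply, ← map_mul, fld_mul_cj, map_mul lift, mul_inv_cancel_right])

theorem Phi_apply (x : GamL ι F) : Phi ι F x = lift (cj x.left * fld x.right) := by
  change lift (cj x.left) * lift (fld x.right) = _
  rw [map_mul]

instance [Finite F] : Finite (GamL ι F) := by
  have : Finite (F ≃+* F) := Finite.of_injective (fun σ => (σ : F → F)) (fun a b h => RingEquiv.ext fun x => congrFun h x)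
  exact Finite.of_equiv _ (SemidirectProduct.equivProd (φ := mgAut ι F)).symm

theorem mgAut_mono (σ : F ≃+* F) (π : Equiv.Perm ι) (d : ι → Fˣ) :
    mgAut ι F σ (mono π d) = mono π (fun j => Units.map (σ : F →* F) (d j)) := by
  apply Units.ext
  ext i j
  change σ (M π (fun j => (d j : F)) i j) = M π (fun j => ((Units.map (σ : F →* F) (d j) : Fˣ) : F)) i j
  rw [M_apply, M_apply]
  split_ifs
  · rfl
  · exact map_zero σ

/-- the stabiliser of the standard frame -/
def Hm (ι F : Type*) [Fintype ι] [DecidableEq ι] [Field F] : Subgroup (GamL ι F) where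
  carrier := {x | x.left ∈ Mon ι F}
  one_mem' := (Mon ι F).one_mem
  mul_mem' := by
    intro x y hx hy
    change x.left * mgAut ι F x.right y.left ∈ Mon ι F
    refine (Mon ι F).mul_mem hx ?_
    obtain ⟨π, d, h⟩ := mem_Mon.1 hy
    rw [h, mgAut_mono]
    exact ⟨_, _, rfl⟩
  inv_mem' := by
    intro x hx
    change mgAut ι F x.right⁻¹ x.left⁻¹ ∈ Mon ι F
    obtain ⟨π, d, h⟩ := mem_Mon.1 hx
    rw [h, mono_inv, mgAut_mono]
    exact ⟨_, _, rfl⟩

theorem mem_Hm {x : GamL ι F} : x ∈ Hm ι F ↔ x.left ∈ Mon ι F := Iff.rfl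

/-- the permutation of the lines of the frame -/
noncomputable def perH (ι F : Type*) [Fintype ι] [DecidableEq ι] [Field F] : ↥(Hm ι F) →* Equiv.Perm ι where
  toFun x := per ⟨x.1.left, x.2⟩
  map_one' := per_eq mono_one.symm
  map_mul' x y := by
    obtain ⟨d, hd⟩ := per_spec ⟨x.1.left, x.2⟩
    obtain ⟨e, he⟩ := per_spec ⟨y.1.left, y.2⟩
    have h1 : (x * y).1.left = x.1.left * mgAut ι F x.1.right y.1.left := rfl
    apply per_eq (d := fun j => d (per ⟨y.1.left, y.2⟩ j) * Units.map (x.1.right : F →* F) (e j))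
    change (x * y).1.left = _
    rw [← mono_mul, ← mgAut_mono, h1]
    have hd' : x.1.left = mono (per ⟨x.1.left, x.2⟩) d := hd
    have he' : y.1.left = mono (per ⟨y.1.left, y.2⟩) e := he
    rw [← hd', ← he']

theorem perH_spec (x : ↥(Hm ι F)) : ∃ d : ι → Fˣ, x.1.left = mono (perH ι F x) d := per_spec ⟨x.1.left, x.2⟩

theorem perH_eq {x : ↥(Hm ι F)} {π : Equiv.Perm ι} {d : ι → Fˣ} (h : x.1.left = mono π d) : perH ι F x = π :=
  per_eq h

theorem index_Hm [Finite F] : (Hm ι F).index = (Mon ι F).index := by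
  have hfin : Finite (F ≃+* F) :=
    Finite.of_injective (fun σ => (σ : F → F)) (fun a b h => RingEquiv.ext fun x => congrFun h x)
  have e1 : Nat.card (GamL ι F) = Nat.card (GL ι F) * Nat.card (F ≃+* F) := by
    rw [Nat.card_congr (SemidirectProduct.equivProd (φ := mgAut ι F)), Nat.card_prod]
  have e2 : Nat.card ↥(Hm ι F) = Nat.card ↥(Mon ι F) * Nat.card (F ≃+* F) := by
    rw [← Nat.card_prod]
    refine Nat.card_congr ⟨fun x => (⟨x.1.left, x.2⟩, x.1.right), fun y => ⟨⟨y.1.1, y.2⟩, y.1.2⟩, fun x => rfl,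
      fun y => rfl⟩
  have h1 := (Hm ι F).card_mul_index
  have h2 := (Mon ι F).card_mul_index
  rw [e1, e2, ← h2] at h1
  have h3 : 0 < Nat.card ↥(Mon ι F) * Nat.card (F ≃+* F) := Nat.mul_pos Nat.card_pos Nat.card_pos
  apply Nat.eq_of_mul_eq_mul_left h3
  rw [h1]
  ring

/-- an inner semilinear automorphism is linear -/
theorem right_eq_one [Nontrivial ι] {x : GamL ι F}
    (h : Phi ι F x ∈ (MulAut.conj : _ →* MulAut (Matrix.ProjectiveSpecialLinearGroup ι F)).range) : x.right = 1 := by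
  obtain ⟨s, hs⟩ := h
  obtain ⟨s, rfl⟩ := pr_surjective s
  have h1 : (MulAut.conj (pr s) : MulAut (Matrix.ProjectiveSpecialLinearGroup ι F)) =
      lift (cj (Matrix.SpecialLinearGroup.toGL s)) := by
    apply MulEquiv.ext
    intro y
    obtain ⟨y, rfl⟩ := pr_surjective y
    rw [lift_pr, MulAut.conj_apply, ← map_mul, ← map_inv, ← map_mul]
    congr 1
  rw [Phi_apply, h1] at hs
  have h2 : lift (cj ((Matrix.SpecialLinearGroup.toGL s)⁻¹ * x.left) * fld x.right) =
      lift (fld (ι := ι) (1 : F ≃+* F)) := by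
    rw [map_mul cj, mul_assoc, map_mul lift, ← hs, map_inv cj, map_inv lift, inv_mul_cancel, map_one, map_one]
  exact (injective_aux h2).2

/-- the inner automorphism of a linear element of determinant `1` -/
theorem Phi_inner (s : Matrix.SpecialLinearGroup ι F) :
    Phi ι F ⟨Matrix.SpecialLinearGroup.toGL s, 1⟩ = MulAut.conj (pr s) := by
  rw [Phi_apply]
  apply MulEquiv.ext
  intro y
  obtain ⟨y, rfl⟩ := pr_surjective y
  rw [lift_pr, MulAut.conj_apply, ← map_mul, ← map_inv, ← map_mul]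
  congr 1

theorem conj_diag (π : Equiv.Perm ι) (d : ι → Fˣ) (σ : F ≃+* F) {g : Matrix.SpecialLinearGroup ι F} {a : ι → F}
    (hg : (g : Matrix ι ι F) = Matrix.diagonal a) :
    (cj (mono π d) (fld σ g) : Matrix ι ι F) = Matrix.diagonal (fun i => σ (a (π⁻¹ i))) := by
  have h0 : ((fld σ g : Matrix.SpecialLinearGroup ι F) : Matrix ι ι F) = Matrix.diagonal (fun i => σ (a i)) := by
    ext i j
    rw [coe_fld_apply, hg, Matrix.diagonal_apply, Matrix.diagonal_apply]
    split_ifs
    · rfl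
    · exact map_zero σ
  rw [coe_cj, h0]
  have h1 : ((mono π d : GL ι F) : Matrix ι ι F) * Matrix.diagonal (fun i => σ (a i)) =
      Matrix.diagonal (fun i => σ (a (π⁻¹ i))) * (mono π d : GL ι F) := by
    rw [coe_mono, ← M_diag, ← M_diag, M_mul, M_mul, mul_one, one_mul]
    congr 1
    funext j
    have h2 : π⁻¹ (π j) = j := π.symm_apply_apply j
    rw [Equiv.Perm.one_apply, h2, mul_comm]
  rw [h1, mul_assoc, ← Units.val_mul, mul_inv_cancel, Units.val_one, mul_one]

/-- diagonal matrices of exponent `p` -/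
def tor (ι F : Type*) [Fintype ι] [DecidableEq ι] [Field F] (p : ℕ) : Subgroup (Matrix.SpecialLinearGroup ι F) where
  carrier := {g | ∃ a : ι → F, (∀ i, a i ^ p = 1) ∧ (g : Matrix ι ι F) = Matrix.diagonal a}
  one_mem' := ⟨fun _ => 1, fun _ => one_pow p, by rw [Matrix.SpecialLinearGroup.coe_one, Matrix.diagonal_one]⟩
  mul_mem' := by
    rintro x y ⟨a, ha, hx⟩ ⟨b, hb, hy⟩
    refine ⟨fun i => a i * b i, fun i => by rw [mul_pow, ha, hb, one_mul], ?_⟩
    rw [Matrix.SpecialLinearGroup.coe_mul, hx, hy, Matrix.diagonal_mul_diagonal]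
  inv_mem' := by
    rintro x ⟨a, ha, hx⟩
    refine ⟨fun i => (a i)⁻¹, fun i => by rw [inv_pow, ha, inv_one], ?_⟩
    have h1 : (x : Matrix ι ι F) * ((x⁻¹ : Matrix.SpecialLinearGroup ι F) : Matrix ι ι F) = 1 := by
      rw [← Matrix.SpecialLinearGroup.coe_mul, mul_inv_cancel, Matrix.SpecialLinearGroup.coe_one]
    have h2 : (Matrix.diagonal fun i => (a i)⁻¹) * (x : Matrix ι ι F) = 1 := by
      rw [hx, Matrix.diagonal_mul_diagonal, ← Matrix.diagonal_one]
      congr 1
      funext i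
      refine inv_mul_cancel₀ ?_
      intro h
      have h3 := ha i
      rcases Nat.eq_zero_or_pos p with rfl | hp
      · have h4 : (x : Matrix ι ι F).det = 0 := by
          rw [hx, Matrix.det_diagonal]
          exact Finset.prod_eq_zero (Finset.mem_univ i) h
        rw [x.2] at h4
        exact one_ne_zero h4
      · rw [h, zero_pow hp.ne'] at h3
        exact zero_ne_one h3
    calc ((x⁻¹ : Matrix.SpecialLinearGroup ι F) : Matrix ι ι F)
        = ((Matrix.diagonal fun i => (a i)⁻¹) * (x : Matrix ι ι F)) *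
          ((x⁻¹ : Matrix.SpecialLinearGroup ι F) : Matrix ι ι F) := by rw [h2, one_mul]
      _ = _ := by rw [mul_assoc, h1, mul_one]

theorem isPGroup_tor {p : ℕ} : IsPGroup p ↥(tor ι F p) := by
  rintro ⟨g, a, ha, hg⟩
  refine ⟨1, ?_⟩
  apply Subtype.ext
  apply Subtype.ext
  change ((g ^ p ^ 1 : Matrix.SpecialLinearGroup ι F) : Matrix ι ι F) = 1
  rw [pow_one, Matrix.SpecialLinearGroup.coe_pow, hg, Matrix.diagonal_pow, ← Matrix.diagonal_one]
  congr 1
  funext i
  exact ha i

/-- a permutation of `p'`-order fixing the diagonal matrices of exponent `p` modulo scalars is trivial -/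
theorem eq_one_of_fix {p : ℕ} (hp : p.Prime) (hp2 : p ≠ 2) {ζ : F} (hζ : ζ ≠ 1) (hζp : ζ ^ p = 1)
    {π : Equiv.Perm ι} (hπ : ¬ p ∣ orderOf π)
    (h : ∀ a : ι → F, (∀ i, a i ^ p = 1) → ∏ i, a i = 1 → ∃ c : F, ∀ i, a i = c * a (π⁻¹ i)) : π = 1 := by
  have hζ0 : ζ ≠ 0 := by
    rintro rfl
    rw [zero_pow hp.ne_zero] at hζp
    exact zero_ne_one hζp
  by_contra hne
  obtain ⟨i, hi⟩ : ∃ i, π i ≠ i := by
    by_contra hall
    push Not at hall
    exact hne (Equiv.ext hall)
  let a : ι → F := fun k => (Pi.mulSingle i ζ : ι → F) k * (Pi.mulSingle (π i) ζ⁻¹ : ι → F) k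
  have ha : ∀ k, a k ^ p = 1 := by
    intro k
    change ((Pi.mulSingle i ζ : ι → F) k * (Pi.mulSingle (π i) ζ⁻¹ : ι → F) k) ^ p = 1
    rw [mul_pow, Pi.mulSingle_apply, Pi.mulSingle_apply]
    split_ifs <;> simp [hζp]
  have hprod : ∏ k, a k = 1 := by
    change ∏ k, ((Pi.mulSingle i ζ : ι → F) k * (Pi.mulSingle (π i) ζ⁻¹ : ι → F) k) = 1
    rw [Finset.prod_mul_distrib, Finset.prod_pi_mulSingle', Finset.prod_pi_mulSingle']
    simp [hζ0]
  obtain ⟨c, hc⟩ := h a ha hprod
  have hc' : ∀ j, a (π j) = c * a j := by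
    intro j
    have h1 := hc (π j)
    have h2 : π⁻¹ (π j) = j := π.symm_apply_apply j
    rwa [h2] at h1
  have hai : a i = ζ := by
    change (Pi.mulSingle i ζ : ι → F) i * (Pi.mulSingle (π i) ζ⁻¹ : ι → F) i = ζ
    rw [Pi.mulSingle_eq_same, Pi.mulSingle_eq_of_ne hi.symm, mul_one]
  have haπ : a (π i) = ζ⁻¹ := by
    change (Pi.mulSingle i ζ : ι → F) (π i) * (Pi.mulSingle (π i) ζ⁻¹ : ι → F) (π i) = ζ⁻¹
    rw [Pi.mulSingle_eq_same, Pi.mulSingle_eq_of_ne hi, one_mul]
  have hm : ∀ m : ℕ, a ((π ^ m) i) = c ^ m * a i := by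
    intro m
    induction m with
    | zero => simp
    | succ m ih => rw [pow_succ', Equiv.Perm.mul_apply, hc', ih, pow_succ', mul_assoc]
  have h1 := hm (orderOf π)
  rw [pow_orderOf_eq_one, Equiv.Perm.one_apply, hai] at h1
  have h2 : c ^ orderOf π = 1 := by
    have h3 : (c ^ orderOf π - 1) * ζ = 0 := by rw [sub_mul, ← h1, one_mul, sub_self]
    rcases mul_eq_zero.1 h3 with h4 | h4
    · exact sub_eq_zero.1 h4
    · exact absurd h4 hζ0
  have h3 : c ^ p = 1 := by
    have h4 := congrArg (fun x => x ^ p) (hc' i)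
    simp only [mul_pow, ha, mul_one] at h4
    exact h4.symm
  have hc1 : c = 1 := by
    have h4 : orderOf c ∣ orderOf π := orderOf_dvd_of_pow_eq_one h2
    have h5 : orderOf c ∣ p := orderOf_dvd_of_pow_eq_one h3
    have h6 : orderOf c = 1 := Nat.eq_one_of_dvd_coprimes ((Nat.Prime.coprime_iff_not_dvd hp).2 hπ) h5 h4
    exact orderOf_eq_one_iff.1 h6
  have h4 := hc' i
  rw [hc1, one_mul, hai, haπ] at h4
  have h5 : ζ ^ 2 = 1 := by
    rw [pow_two]
    nth_rewrite 1 [← h4]
    exact inv_mul_cancel₀ hζ0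
  have h6 : orderOf ζ ∣ 2 := orderOf_dvd_of_pow_eq_one h5
  have h7 : orderOf ζ ∣ p := orderOf_dvd_of_pow_eq_one hζp
  have h8 : Nat.Coprime 2 p := (Nat.coprime_primes Nat.prime_two hp).2 hp2.symm
  exact hζ (orderOf_eq_one_iff.1 (Nat.eq_one_of_dvd_coprimes h8 h6 h7))

end Gam

section Main

variable {F : Type*} [Field F] [Fintype F] {n p : ℕ} [hp : Fact p.Prime]

/-- **`PSL_n(q)`, `p` odd dividing `q - 1`.** -/
theorem frames (hn : 2 ≤ n) (hp2 : p ≠ 2) (hpq : p ∣ Fintype.card F - 1)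
    (hc : Subgroup.center (Matrix.ProjectiveSpecialLinearGroup (Fin n) F) = ⊥)
    (A : Subgroup (MulAut (Matrix.ProjectiveSpecialLinearGroup (Fin n) F))) (hA : IsPGroup p ↥A)
    (Q : Sylow p (Matrix.ProjectiveSpecialLinearGroup (Fin n) F))
    (hQ : (Q : Subgroup _).map MulAut.conj ≤ A) :
    ∃ h : Matrix.ProjectiveSpecialLinearGroup (Fin n) F, ¬ p ∣ orderOf h ∧
      (∀ a ∈ A, MulAut.conj h * a * (MulAut.conj h)⁻¹ ∈ A) ∧ ∃ t ∈ (Q : Subgroup _), h * t * h⁻¹ ≠ t := by
  classical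
  have hnt : Nontrivial (Fin n) := Fin.nontrivial_iff_two_le.2 hn
  -- a root of unity
  obtain ⟨ζ, hζ⟩ : ∃ ζ : Fˣ, orderOf ζ = p := by
    apply exists_prime_orderOf_dvd_card
    rw [Fintype.card_units]
    exact hpq
  have hζ1 : (ζ : F) ≠ 1 := by
    intro h
    have h1 : ζ = 1 := Units.ext h
    rw [h1, orderOf_one] at hζ
    exact hp.out.one_lt.ne hζ
  have hζp : (ζ : F) ^ p = 1 := by
    rw [← Units.val_pow_eq_pow_val, ← hζ, pow_orderOf_eq_one, Units.val_one]
  let f : ↥(Hm (Fin n) F) →* ℤˣ := Equiv.Perm.sign.comp (perH (Fin n) F)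
  let T : Subgroup (Matrix.ProjectiveSpecialLinearGroup (Fin n) F) := (tor (Fin n) F p).map pr
  refine cover_strong hc (Phi (Fin n) F) (Hm (Fin n) F) ?_ (K := ℤˣ) ?_ f ?_ T ?_ ?_ ?_ A hA ?_ Q hQ
  · rw [index_Hm]
    exact not_dvd_index hp2 hpq
  · have h1 : Nat.card ℤˣ = 2 := by rw [Nat.card_eq_fintype_card]; rfl
    rw [h1]
    intro h
    exact hp2 ((Nat.prime_dvd_prime_iff_eq hp.out Nat.prime_two).1 h)
  · obtain ⟨i, j, hij⟩ := exists_pair_ne (Fin n)
    let d : Fin n → Fˣ := Pi.mulSingle i (-1)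
    have hdet : (M (Equiv.swap i j) (fun k => (d k : F))).det = 1 := by
      rw [det_M, Equiv.Perm.sign_swap hij]
      have h1 : ∏ k, (d k : F) = -1 := by
        rw [← Units.coe_prod]
        change ((∏ k, (Pi.mulSingle i (-1) : Fin n → Fˣ) k : Fˣ) : F) = -1
        rw [Finset.prod_pi_mulSingle']
        simp
      rw [h1]
      simp
    let s : Matrix.SpecialLinearGroup (Fin n) F := ⟨_, hdet⟩
    have hs : Matrix.SpecialLinearGroup.toGL s = mono (Equiv.swap i j) d := by
      apply Units.ext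
      rfl
    have hmem : (⟨Matrix.SpecialLinearGroup.toGL s, 1⟩ : GamL (Fin n) F) ∈ Hm (Fin n) F := ⟨_, _, hs⟩
    refine ⟨⟨_, hmem⟩, ?_, ?_⟩
    · rw [Phi_inner]
      exact ⟨_, rfl⟩
    · change Equiv.Perm.sign (perH (Fin n) F ⟨_, hmem⟩) ≠ 1
      rw [perH_eq (π := Equiv.swap i j) (d := d) hs, Equiv.Perm.sign_swap hij]
      decide
  · exact isPGroup_tor.map _
  · rintro w - _ ⟨g, ⟨a, ha, hg⟩, rfl⟩
    obtain ⟨d, hd⟩ := perH_spec w
    refine ⟨cj w.1.left (fld w.1.right g), ⟨fun i => w.1.right (a ((perH (Fin n) F w)⁻¹ i)), ?_, ?_⟩, ?_⟩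
    · intro i
      rw [← map_pow, ha, map_one]
    · rw [hd]
      exact conj_diag _ _ _ hg
    · rw [Phi_apply]
      rfl
  · intro w hw hin hfw
    by_contra hcon
    push Not at hcon
    have hσ := right_eq_one hin
    obtain ⟨d, hd⟩ := perH_spec w
    apply hfw
    change Equiv.Perm.sign (perH (Fin n) F w) = 1
    have h1 : perH (Fin n) F w = 1 := by
      apply eq_one_of_fix hp.out hp2 hζ1 hζp
      · intro h
        exact hw (h.trans (orderOf_map_dvd _ _))
      · intro a ha hprod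
        let g : Matrix.SpecialLinearGroup (Fin n) F := ⟨Matrix.diagonal a, by rw [Matrix.det_diagonal, hprod]⟩
        have hgT : pr g ∈ T := ⟨g, ⟨a, ha, rfl⟩, rfl⟩
        have h2 := hcon _ hgT
        rw [Phi_apply, hσ, lift_pr] at h2
        have h3 : (((cj w.1.left * fld (1 : F ≃+* F) : MulAut (Matrix.SpecialLinearGroup (Fin n) F)) g :
            Matrix.SpecialLinearGroup (Fin n) F) :
            Matrix (Fin n) (Fin n) F) = Matrix.diagonal (fun i => a ((perH (Fin n) F w)⁻¹ i)) := by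
          rw [MulAut.mul_apply]
          have h4 := conj_diag (perH (Fin n) F w) d (1 : F ≃+* F) (g := g) (a := a) rfl
          rw [← hd] at h4
          exact h4
        obtain ⟨c, hc⟩ := exists_smul_of_pr_eq h2
        refine ⟨c, fun i => ?_⟩
        rw [h3] at hc
        have h5 := congrFun (congrFun hc i) i
        change Matrix.diagonal a i i = _ at h5
        rw [Matrix.smul_apply, Matrix.diagonal_apply_eq, Matrix.diagonal_apply_eq, smul_eq_mul] at h5
        exact h5
    rw [h1, map_one]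
  · intro x hx
    obtain ⟨k, hk⟩ := hA ⟨x, hx⟩
    have hk' : x ^ p ^ k = 1 := congrArg Subtype.val hk
    obtain ⟨B, σ, h⟩ := Cfsg.Agent.BpLin.exists_type hn ((hp.out.odd_of_ne_two hp2).pow) hk'
    exact ⟨⟨B, σ⟩, by rw [Phi_apply, h]⟩

end Main

end Cfsg.Agent.H507.GmnPSL
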