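import Cfsg.Agent.H507.GmnPSL
import Cfsg.Agent.H507.GmnLinA
import Cfsg.Agent.H507.GmnSp
import Cfsg.Agent.H712.GmnStrong

/-!
# Rows `PSL_n(q)` and `PSp_{2m}(q)`, `p` odd not the characteristic (helper507)

* `rowS_psl` : rows R4 and R5;
* `rowS_psp` : row R8.
-/

set_option autoImplicit false

namespace Cfsg.Agent.H507.GmnRows

open Cfsg Cfsg.Agent.H712.Gmn

/-- **`PSL_n(q)`.** -/
theorem rowS_psl {F : Type} [Field F] [Fintype F] {n p : ℕ} [hp : Fact p.Prime] (hn : 2 ≤ n) (hp2 : p ≠ 2)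
    (hpF : (p : F) ≠ 0)
    (hc : Subgroup.center (Matrix.ProjectiveSpecialLinearGroup (Fin n) F) = ⊥)
    (hd : p ∣ Nat.card (Matrix.ProjectiveSpecialLinearGroup (Fin n) F)) :
    RowS p (Matrix.ProjectiveSpecialLinearGroup (Fin n) F) := by
  by_cases hpq : p ∣ Fintype.card F - 1
  · intro A hA Q hQ
    exact GmnPSL.frames hn hp2 hpq hc A hA Q (by
      rintro _ ⟨x, hx, rfl⟩
      exact hQ x hx)
  · refine RowS.of_powConj hc hd fun z _ hz => ⟨Fintype.card F, GmnLinA.not_modEq Fintype.card_pos hpq, ?_⟩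
    exact isConj_iff.2 (GmnLinA.conj_pow hp.out hpF hpq hz)

/-- **`PSp_{2m}(q)`.** -/
theorem rowS_psp {F : Type*} [Field F] [Fintype F] {m p : ℕ} [hp : Fact p.Prime] (hp2 : p ≠ 2)
    (hpF : (p : F) ≠ 0) (hc : Subgroup.center (PSp m F) = ⊥) (hd : p ∣ Nat.card (PSp m F)) : RowS p (PSp m F) :=
  RowS.of_real hp2 hc hd fun _ _ hz => isConj_iff.2 (GmnSp.conj_inv hp.out hp2 hpF hz)

end Cfsg.Agent.H507.GmnRows
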